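import Mathlib.GroupTheory.Solvable
import Mathlib.GroupTheory.Sylow
import Mathlib.GroupTheory.Complement
import Mathlib.GroupTheory.Perm.Cycle.Type
import Mathlib.Algebra.Group.Subgroup.Pointwise

/-!
# Small general facts for the solvable-group library

* images of subgroups and conjugation,
* existence of minimal normal subgroups,
* a minimal normal subgroup of a solvable group is elementary abelian.
-/

set_option autoImplicit false

namespace CfsgLib.Solvable

open scoped Pointwise

variable {G : Type*} [Group G]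

section Conjugation

variable {G' : Type*} [Group G']

/-- The image of a conjugate is the conjugate of the image. -/
theorem map_conj_smul (f : G →* G') (g : G) (H : Subgroup G) :
    (MulAut.conj g • H).map f = MulAut.conj (f g) • H.map f := by
  change (H.map (MulAut.conj g).toMonoidHom).map f =
    (H.map f).map (MulAut.conj (f g)).toMonoidHom
  rw [Subgroup.map_map, Subgroup.map_map]
  congr 1
  ext x
  simp

/-- Conjugation commutes with `Subgroup.map` of the inclusion of a subgroup. -/
theorem map_subtype_conj_smul {L : Subgroup G} (l : L) (H : Subgroup L) :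
    (MulAut.conj l • H).map L.subtype = MulAut.conj (l : G) • H.map L.subtype :=
  map_conj_smul L.subtype l H

theorem mem_conj_smul {g x : G} {H : Subgroup G} :
    x ∈ MulAut.conj g • H ↔ g⁻¹ * x * g ∈ H := by
  rw [Subgroup.mem_pointwise_smul_iff_inv_smul_mem, ← map_inv, MulAut.smul_def,
    MulAut.conj_apply, inv_inv]

theorem conj_mem_conj_smul {g x : G} {H : Subgroup G} (hx : x ∈ H) :
    g * x * g⁻¹ ∈ MulAut.conj g • H := by
  rw [mem_conj_smul]
  simpa [mul_assoc] using hx

theorem card_conj_smul (g : G) (H : Subgroup G) :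
    Nat.card (MulAut.conj g • H : Subgroup G) = Nat.card H :=
  (Nat.card_congr (Subgroup.equivSMul (MulAut.conj g) H).toEquiv).symm

theorem index_conj_smul (g : G) (H : Subgroup G) :
    (MulAut.conj g • H : Subgroup G).index = H.index :=
  Subgroup.index_map_equiv H (MulAut.conj g)

theorem mem_normalizer_iff_conj_smul {g : G} {H : Subgroup G} :
    g ∈ Subgroup.normalizer (H : Set G) ↔ MulAut.conj g • H = H := by
  rw [Subgroup.mem_normalizer_iff_map_conj_eq]
  rfl

end Conjugation

section Cards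

/-- For a normal `N` and `H` meeting it trivially, the image of `H` in `G ⧸ N` has the order of `H`. -/
theorem card_map_mk'_of_disjoint (N H : Subgroup G) [N.Normal] (h : Disjoint H N) :
    Nat.card (H.map (QuotientGroup.mk' N)) = Nat.card H := by
  refine (Nat.card_congr (Equiv.ofBijective
    (fun x : H => (⟨QuotientGroup.mk' N x, Subgroup.mem_map_of_mem _ x.2⟩ :
      H.map (QuotientGroup.mk' N))) ⟨?_, ?_⟩)).symm
  · intro x y hxy
    have h1 : QuotientGroup.mk' N (x : G) = QuotientGroup.mk' N (y : G) := congrArg Subtype.val hxy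
    rw [QuotientGroup.mk'_eq_mk'] at h1
    obtain ⟨z, hz, hzy⟩ := h1
    have hzH : z ∈ H := by
      have : z = (x : G)⁻¹ * (y : G) := by rw [← hzy, inv_mul_cancel_left]
      rw [this]; exact H.mul_mem (H.inv_mem x.2) y.2
    have hz1 : z = 1 := Subgroup.mem_bot.mp (h.le_bot ⟨hzH, hz⟩)
    apply Subtype.ext
    rw [← hzy, hz1, mul_one]
  · rintro ⟨_, x, hx, rfl⟩
    exact ⟨⟨x, hx⟩, rfl⟩

/-- A subgroup containing a normal subgroup is the preimage of its image in the quotient. -/
theorem comap_map_mk'_of_le {N H : Subgroup G} [N.Normal] (h : N ≤ H) :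
    (H.map (QuotientGroup.mk' N)).comap (QuotientGroup.mk' N) = H := by
  apply Subgroup.comap_map_eq_self
  rwa [QuotientGroup.ker_mk']

/-- `|H ⊔ N| = |N| * |H|` when `H` meets the normal subgroup `N` trivially. -/
theorem card_sup_of_disjoint (N H : Subgroup G) [N.Normal] (h : Disjoint H N) :
    Nat.card (H ⊔ N : Subgroup G) = Nat.card H * Nat.card N := by
  have h1 : Function.Injective (fun p : H × N => (p.1 : G) * (p.2 : G)) :=
    Subgroup.mul_injective_of_disjoint h
  have h2 : ((H ⊔ N : Subgroup G) : Set G) = Set.range (fun p : H × N => (p.1 : G) * (p.2 : G)) := by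
    ext x
    simp only [SetLike.mem_coe, Set.mem_range, Prod.exists, Subtype.exists, exists_prop]
    rw [← SetLike.mem_coe, Subgroup.mul_normal H N, Set.mem_mul]
    simp only [SetLike.mem_coe]
  rw [← Nat.card_prod, ← Nat.card_range_of_injective h1, ← h2]
  rfl

end Cards

section MinimalNormal

/-- Every nontrivial normal subgroup of a finite group contains a minimal one. -/
theorem exists_minimal_normal_le [Finite G] {N : Subgroup G} (hN : N.Normal) (hne : N ≠ ⊥) :
    ∃ M : Subgroup G, M.Normal ∧ M ≠ ⊥ ∧ M ≤ N ∧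
      ∀ K : Subgroup G, K.Normal → K ≤ M → K = ⊥ ∨ K = M := by
  obtain ⟨M, ⟨hM1, hM2, hM3⟩, hmin⟩ := WellFounded.has_min
    (wellFounded_lt : WellFounded ((· < ·) : Subgroup G → Subgroup G → Prop))
    {M : Subgroup G | M.Normal ∧ M ≠ ⊥ ∧ M ≤ N} ⟨N, hN, hne, le_rfl⟩
  refine ⟨M, hM1, hM2, hM3, fun K hK hKM => ?_⟩
  by_contra! h
  exact hmin K ⟨hK, h.1, hKM.trans hM3⟩ (lt_of_le_of_ne hKM h.2)

theorem exists_minimal_normal [Finite G] [Nontrivial G] :
    ∃ M : Subgroup G, M.Normal ∧ M ≠ ⊥ ∧
      ∀ K : Subgroup G, K.Normal → K ≤ M → K = ⊥ ∨ K = M := by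
  obtain ⟨M, h1, h2, -, h3⟩ :=
    exists_minimal_normal_le (G := G) (N := ⊤) inferInstance top_ne_bot
  exact ⟨M, h1, h2, h3⟩

/-- A minimal normal subgroup which is solvable is abelian. -/
theorem commutator_eq_bot_of_minimal_normal {N : Subgroup G} [N.Normal] (hne : N ≠ ⊥)
    [Group.IsSolvable N] (hmin : ∀ M : Subgroup G, M.Normal → M ≤ N → M = ⊥ ∨ M = N) :
    ⁅N, N⁆ = ⊥ := by
  rcases hmin ⁅N, N⁆ inferInstance (Subgroup.commutator_le_right N N) with h | h
  · exact h
  · have hnt : Nontrivial N := N.bot_or_nontrivial.resolve_left hne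
    have := Group.IsSolvable.commutator_lt_top_of_nontrivial N
    exfalso
    apply this.ne
    apply Subgroup.map_injective N.subtype_injective
    rw [Subgroup.map_subtype_commutator, h, ← MonoidHom.range_eq_map, N.range_subtype]

/-- A minimal normal subgroup which is solvable is commutative. -/
theorem mul_comm_of_minimal_normal {N : Subgroup G} [N.Normal] (hne : N ≠ ⊥)
    [Group.IsSolvable N] (hmin : ∀ M : Subgroup G, M.Normal → M ≤ N → M = ⊥ ∨ M = N) :
    ∀ x ∈ N, ∀ y ∈ N, x * y = y * x := by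
  intro x hx y hy
  have h := Subgroup.commutator_mem_commutator hx hy
  rw [commutator_eq_bot_of_minimal_normal hne hmin, Subgroup.mem_bot] at h
  exact commutatorElement_eq_one_iff_mul_comm.mp h

theorem isMulCommutative_of_minimal_normal {N : Subgroup G} [N.Normal] (hne : N ≠ ⊥)
    [Group.IsSolvable N] (hmin : ∀ M : Subgroup G, M.Normal → M ≤ N → M = ⊥ ∨ M = N) :
    IsMulCommutative N :=
  ⟨⟨fun x y => Subtype.ext (mul_comm_of_minimal_normal hne hmin x x.2 y y.2)⟩⟩

/-- A solvable minimal normal subgroup of a finite group has exponent a prime. -/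
theorem exists_prime_pow_eq_one_of_minimal_normal [Finite G] {N : Subgroup G} [N.Normal]
    (hne : N ≠ ⊥) [Group.IsSolvable N]
    (hmin : ∀ M : Subgroup G, M.Normal → M ≤ N → M = ⊥ ∨ M = N) :
    ∃ p : ℕ, p.Prime ∧ ∀ x ∈ N, x ^ p = 1 := by
  have hc := mul_comm_of_minimal_normal hne hmin
  obtain ⟨p, hp, hdvd⟩ := Nat.exists_prime_and_dvd (N.one_lt_card_iff_ne_bot.mpr hne).ne'
  refine ⟨p, hp, ?_⟩
  have := Fact.mk hp
  let M : Subgroup G :=
    { carrier := {x : G | x ∈ N ∧ x ^ p = 1}
      one_mem' := ⟨N.one_mem, one_pow p⟩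
      mul_mem' := fun {a b} ha hb => ⟨N.mul_mem ha.1 hb.1, by
        rw [Commute.mul_pow (hc a ha.1 b hb.1), ha.2, hb.2, one_mul]⟩
      inv_mem' := fun {a} ha => ⟨N.inv_mem ha.1, by rw [inv_pow, ha.2, inv_one]⟩ }
  have hMn : M.Normal := ⟨fun x hx g => ⟨(inferInstance : N.Normal).conj_mem x hx.1 g, by
    rw [conj_pow, hx.2, mul_one, mul_inv_cancel]⟩⟩
  rcases hmin M hMn (fun x hx => hx.1) with h | h
  · exfalso
    obtain ⟨x, hx⟩ := exists_prime_orderOf_dvd_card' p hdvd
    have hxM : (x : G) ∈ M := ⟨x.2, by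
      rw [← SubgroupClass.coe_pow, ← hx, pow_orderOf_eq_one]; rfl⟩
    rw [h, Subgroup.mem_bot] at hxM
    have : x = 1 := Subtype.ext hxM
    rw [this, orderOf_one] at hx
    exact hp.ne_one hx.symm
  · intro x hx
    rw [← h] at hx
    exact hx.2

/-- A solvable minimal normal subgroup of a finite group is a `p`-group for a prime `p`. -/
theorem exists_isPGroup_of_minimal_normal [Finite G] {N : Subgroup G} [N.Normal]
    (hne : N ≠ ⊥) [Group.IsSolvable N]
    (hmin : ∀ M : Subgroup G, M.Normal → M ≤ N → M = ⊥ ∨ M = N) :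
    ∃ p : ℕ, p.Prime ∧ IsPGroup p N := by
  obtain ⟨p, hp, h⟩ := exists_prime_pow_eq_one_of_minimal_normal hne hmin
  refine ⟨p, hp, fun x => ⟨1, ?_⟩⟩
  rw [pow_one]
  exact Subtype.ext (h x x.2)

end MinimalNormal

end CfsgLib.Solvable
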