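import Mathlib.GroupTheory.Nilpotent
import Mathlib.GroupTheory.NoncommPiCoprod
import Mathlib.GroupTheory.GroupAction.ConjAct
import Cfsg.Prelude.Def_Solvable
import Cfsg.Agent.Solvable.Basic

/-!
# The p-core and the Fitting subgroup of a finite group

* `le_pCore`, `pCore_normal`, `isPGroup_pCore`, `pCore_le_sylow`, `pCore_eq_iInf`,
  `map_pCore_le`, `pCore_characteristic`.
* `le_fittingSubgroup`, `fittingSubgroup_normal`, `fittingSubgroup_eq_iSup`,
  `fittingSubgroup_isNilpotent`, `fittingSubgroup_characteristic`, `map_fittingSubgroup_le`.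
* `centralizer_fittingSubgroup_le`: in a solvable group `C(F) ≤ F`.
-/

set_option autoImplicit false

namespace CfsgLib.Solvable

open scoped Pointwise

variable {G : Type*} [Group G]

section PCore

variable {p : ℕ}

theorem le_pCore {N : Subgroup G} [hn : N.Normal] (h : IsPGroup p N) : N ≤ Cfsg.pCore p G :=
  le_sSup ⟨hn, h⟩

theorem pCore_normal (p : ℕ) : (Cfsg.pCore p G).Normal :=
  Subgroup.sSup_normal _ fun _ h => h.1

theorem pCore_le_sylow (P : Sylow p G) : Cfsg.pCore p G ≤ (P : Subgroup G) :=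
  sSup_le fun N hN => haveI := hN.1; IsPGroup.le_sylow_of_normal hN.2 P

theorem isPGroup_pCore (p : ℕ) : IsPGroup p (Cfsg.pCore p G) :=
  have P := Classical.arbitrary (Sylow p G)
  P.isPGroup'.to_le (pCore_le_sylow P)

theorem pCore_eq_iInf : Cfsg.pCore p G = ⨅ P : Sylow p G, (P : Subgroup G) := by
  refine le_antisymm (le_iInf pCore_le_sylow) ?_
  have : (⨅ P : Sylow p G, (P : Subgroup G)).Normal := by
    refine ⟨fun x hx g => ?_⟩
    rw [Subgroup.mem_iInf] at hx ⊢
    intro P
    have h1 := hx (g⁻¹ • P)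
    rw [Sylow.coe_subgroup_smul, mem_conj_smul, inv_inv] at h1
    exact h1
  exact le_pCore ((Classical.arbitrary (Sylow p G)).isPGroup'.to_le (iInf_le _ _))

theorem map_pCore_le {G' : Type*} [Group G'] {f : G →* G'} (hf : Function.Surjective f) :
    (Cfsg.pCore p G).map f ≤ Cfsg.pCore p G' := by
  have := pCore_normal (G := G) p
  have : ((Cfsg.pCore p G).map f).Normal := Subgroup.Normal.map inferInstance f hf
  exact le_pCore ((isPGroup_pCore p).map f)

theorem pCore_characteristic (p : ℕ) : (Cfsg.pCore p G).Characteristic :=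
  Subgroup.characteristic_iff_map_le.mpr fun φ => map_pCore_le φ.surjective

end PCore

section Fitting

theorem le_fittingSubgroup {N : Subgroup G} [hn : N.Normal] (h : Group.IsNilpotent N) :
    N ≤ Cfsg.fittingSubgroup G :=
  le_sSup ⟨hn, h⟩

theorem fittingSubgroup_normal : (Cfsg.fittingSubgroup G).Normal :=
  Subgroup.sSup_normal _ fun _ h => h.1

variable [Finite G]

theorem pCore_le_fittingSubgroup (p : ℕ) [Fact p.Prime] :
    Cfsg.pCore p G ≤ Cfsg.fittingSubgroup G :=
  haveI := pCore_normal (G := G) p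
  le_fittingSubgroup (IsPGroup.isNilpotent (isPGroup_pCore p))

/-- A finite group is generated by one Sylow subgroup for each prime divisor of its order. -/
theorem iSup_sylow_eq_top (P : ∀ p : (Nat.card G).primeFactors, Sylow (p : ℕ) G) :
    ⨆ p, ((P p : Subgroup G)) = ⊤ := by
  apply Subgroup.eq_top_of_card_eq
  apply Nat.dvd_antisymm (Subgroup.card_subgroup_dvd_card _)
  rw [← Nat.factorization_prime_le_iff_dvd Nat.card_pos.ne' Nat.card_pos.ne']
  intro p hp
  by_cases hdvd : p ∈ (Nat.card G).primeFactors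
  · have := Fact.mk hp
    have h1 : Nat.card (P ⟨p, hdvd⟩ : Subgroup G) ∣
        Nat.card (⨆ q, ((P q : Subgroup G)) : Subgroup G) :=
      Subgroup.card_dvd_of_le (le_iSup (fun q => ((P q : Subgroup G))) ⟨p, hdvd⟩)
    rw [(P ⟨p, hdvd⟩).card_eq_multiplicity] at h1
    exact (hp.pow_dvd_iff_le_factorization Nat.card_pos.ne').mp h1
  · rw [← Nat.support_factorization, Finsupp.notMem_support_iff] at hdvd
    rw [hdvd]
    exact Nat.zero_le _

theorem le_iSup_pCore_of_isNilpotent {N : Subgroup G} [N.Normal] [Group.IsNilpotent N] :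
    N ≤ ⨆ p : Nat.Primes, Cfsg.pCore (p : ℕ) G := by
  have htop := iSup_sylow_eq_top (G := N) (fun p => Classical.arbitrary (Sylow (p : ℕ) N))
  have h := congrArg (Subgroup.map N.subtype) htop
  rw [Subgroup.map_iSup, ← MonoidHom.range_eq_map, Subgroup.range_subtype] at h
  conv_lhs => rw [← h]
  refine iSup_le fun p => ?_
  have hp : Fact (p : ℕ).Prime := ⟨Nat.prime_of_mem_primeFactors p.2⟩
  let P : Sylow (p : ℕ) N := Classical.arbitrary (Sylow (p : ℕ) N)
  have hPn : (P : Subgroup N).Normal := inferInstance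
  have hPc : (P : Subgroup N).Characteristic := P.characteristic_of_normal hPn
  exact le_trans (le_pCore (P.isPGroup'.map N.subtype))
    (le_iSup (fun q : Nat.Primes => Cfsg.pCore (q : ℕ) G) ⟨p, hp.out⟩)

theorem pCore_eq_bot_of_not_dvd {p : ℕ} [Fact p.Prime] (h : ¬ p ∣ Nat.card G) :
    Cfsg.pCore p G = ⊥ := by
  apply Subgroup.card_eq_one.mp
  obtain ⟨n, hn⟩ := IsPGroup.iff_card.mp (isPGroup_pCore (G := G) p)
  rcases n.eq_zero_or_pos with h0 | h0
  · rw [hn, h0, pow_zero]
  · exact absurd ((dvd_pow_self p h0.ne').trans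
      (hn ▸ Subgroup.card_subgroup_dvd_card _)) h

theorem iSup_pCore_eq :
    ⨆ p : Nat.Primes, Cfsg.pCore (p : ℕ) G =
      ⨆ p : (Nat.card G).primeFactors, Cfsg.pCore (p : ℕ) G := by
  refine le_antisymm (iSup_le fun p => ?_) (iSup_le fun p =>
    le_iSup (fun q : Nat.Primes => Cfsg.pCore (q : ℕ) G) ⟨p, Nat.prime_of_mem_primeFactors p.2⟩)
  by_cases h : (p : ℕ) ∣ Nat.card G
  · exact le_iSup (fun q : (Nat.card G).primeFactors => Cfsg.pCore (q : ℕ) G)
      ⟨p, Nat.mem_primeFactors.mpr ⟨p.2, h, Nat.card_pos.ne'⟩⟩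
  · have := Fact.mk p.2
    rw [pCore_eq_bot_of_not_dvd h]
    exact bot_le

theorem isNilpotent_iSup_pCore :
    Group.IsNilpotent (⨆ p : Nat.Primes, Cfsg.pCore (p : ℕ) G : Subgroup G) := by
  rw [iSup_pCore_eq]
  have hcomm : Pairwise fun i j : (Nat.card G).primeFactors => ∀ x y : G,
      x ∈ Cfsg.pCore (i : ℕ) G → y ∈ Cfsg.pCore (j : ℕ) G → Commute x y := by
    intro i j hij x y hx hy
    have := Fact.mk (Nat.prime_of_mem_primeFactors i.2)
    have := Fact.mk (Nat.prime_of_mem_primeFactors j.2)
    exact Subgroup.commute_of_normal_of_disjoint _ _ (pCore_normal _) (pCore_normal _)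
      (IsPGroup.disjoint_of_ne _ _ (fun h => hij (Subtype.ext h)) _ _ (isPGroup_pCore _)
        (isPGroup_pCore _)) x y hx hy
  rw [← Subgroup.noncommPiCoprod_range (hcomm := hcomm)]
  have : ∀ i : (Nat.card G).primeFactors, Group.IsNilpotent (Cfsg.pCore (i : ℕ) G) := fun i =>
    haveI := Fact.mk (Nat.prime_of_mem_primeFactors i.2)
    IsPGroup.isNilpotent (isPGroup_pCore _)
  exact Group.nilpotent_of_surjective _ (MonoidHom.rangeRestrict_surjective _)

/-- The Fitting subgroup is the join of the `p`-cores. -/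
theorem fittingSubgroup_eq_iSup :
    Cfsg.fittingSubgroup G = ⨆ p : Nat.Primes, Cfsg.pCore (p : ℕ) G :=
  le_antisymm (sSup_le fun N hN => haveI := hN.1; haveI := hN.2; le_iSup_pCore_of_isNilpotent)
    (iSup_le fun p => haveI := Fact.mk p.2; pCore_le_fittingSubgroup _)

/-- **Fitting's theorem**. -/
theorem fittingSubgroup_isNilpotent : Group.IsNilpotent (Cfsg.fittingSubgroup G) := by
  rw [fittingSubgroup_eq_iSup]
  exact isNilpotent_iSup_pCore

theorem map_fittingSubgroup_le {G' : Type*} [Group G'] {f : G →* G'}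
    (hf : Function.Surjective f) :
    (Cfsg.fittingSubgroup G).map f ≤ Cfsg.fittingSubgroup G' := by
  have := fittingSubgroup_normal (G := G)
  have := fittingSubgroup_isNilpotent (G := G)
  have : ((Cfsg.fittingSubgroup G).map f).Normal := Subgroup.Normal.map inferInstance f hf
  exact le_fittingSubgroup (Group.nilpotent_of_surjective _
    (MonoidHom.subgroupMap_surjective f (Cfsg.fittingSubgroup G)))

theorem fittingSubgroup_characteristic : (Cfsg.fittingSubgroup G).Characteristic :=
  Subgroup.characteristic_iff_map_le.mpr fun φ => map_fittingSubgroup_le φ.surjective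

/-- A nontrivial finite solvable group has nontrivial Fitting subgroup. -/
theorem fittingSubgroup_ne_bot [Nontrivial G] [Group.IsSolvable G] :
    Cfsg.fittingSubgroup G ≠ ⊥ := by
  obtain ⟨M, hMn, hMne, hmin⟩ := exists_minimal_normal (G := G)
  obtain ⟨p, hp, hMp⟩ := exists_isPGroup_of_minimal_normal hMne hmin
  have := Fact.mk hp
  exact ne_bot_of_le_ne_bot hMne (le_fittingSubgroup hMp.isNilpotent)

/-- A normal subgroup of a solvable group which centralises the Fitting subgroup lies in it. -/
theorem le_fittingSubgroup_of_le_centralizer [Group.IsSolvable G] {C : Subgroup G} [C.Normal]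
    (hC : C ≤ Subgroup.centralizer (Cfsg.fittingSubgroup G : Set G)) :
    C ≤ Cfsg.fittingSubgroup G := by
  by_contra hCF
  have := fittingSubgroup_normal (G := G)
  let Z : Subgroup G := Cfsg.fittingSubgroup G ⊓ C
  let f := QuotientGroup.mk' Z
  have : (C.map f).Normal := Subgroup.Normal.map inferInstance f (QuotientGroup.mk'_surjective Z)
  have hne : C.map f ≠ ⊥ := by
    rw [Ne, Subgroup.map_eq_bot_iff, QuotientGroup.ker_mk']
    exact fun h => hCF (h.trans inf_le_left)
  obtain ⟨M, hMn, hMne, hMC, hmin⟩ := exists_minimal_normal_le this hne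
  let K : Subgroup G := M.comap f
  have hKC : K ≤ C := by
    refine (Subgroup.comap_mono hMC).trans ?_
    rw [Subgroup.comap_map_eq, QuotientGroup.ker_mk']
    exact sup_le le_rfl inf_le_right
  let φ : K →* M := (f.comp K.subtype).codRestrict M fun k => k.2
  have hMnil : Group.IsNilpotent M := by
    obtain ⟨p, hp, hMp⟩ := exists_isPGroup_of_minimal_normal hMne hmin
    have := Fact.mk hp
    exact hMp.isNilpotent
  have hker : φ.ker ≤ Subgroup.center K := by
    intro x hx
    rw [Subgroup.mem_center_iff]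
    intro y
    have hxZ : (x : G) ∈ Z := (QuotientGroup.eq_one_iff _).mp (congrArg Subtype.val hx)
    apply Subtype.ext
    exact (Subgroup.mem_centralizer_iff.mp (hC (hKC y.2)) _ hxZ.1).symm
  have hK : Group.IsNilpotent K := Subgroup.isNilpotent_of_ker_le_center φ hker
  have hKF : K ≤ Z := le_inf (le_fittingSubgroup hK) hKC
  apply hMne
  rw [← Subgroup.map_comap_eq_self_of_surjective (QuotientGroup.mk'_surjective Z) M,
    Subgroup.map_eq_bot_iff, QuotientGroup.ker_mk']
  exact hKF

/-- In a finite solvable group, `C(F(G)) ≤ F(G)`. -/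
theorem centralizer_fittingSubgroup_le [Group.IsSolvable G] :
    Subgroup.centralizer (Cfsg.fittingSubgroup G : Set G) ≤ Cfsg.fittingSubgroup G :=
  haveI := fittingSubgroup_normal (G := G)
  le_fittingSubgroup_of_le_centralizer le_rfl

end Fitting

end CfsgLib.Solvable
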