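import Mathlib.GroupTheory.SchurZassenhaus
import Cfsg.Agent.Solvable.Basic

/-!
# Conjugacy in the Schur–Zassenhaus theorem

* `exists_conj_eq_of_abelian`: abelian normal Hall subgroup.
* `exists_conj_eq_of_isComplement'`: normal Hall subgroup `N`, with `N` or `G ⧸ N` solvable.
* `exists_conj_eq_of_card`: the same with complements given by their order.
* `exists_conj_le_of_coprime`: a subgroup of order coprime to `N` lies in a conjugate of a
  complement.
-/

set_option autoImplicit false

namespace CfsgLib.Solvable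

open scoped Pointwise

universe u

section Abelian

variable {G : Type*} [Group G] [Finite G] {A : Subgroup G} [A.Normal] [IsMulCommutative A]

/-- A complement of an abelian normal Hall subgroup is the stabilizer of the class of the
transversal it defines. -/
theorem eq_stabilizer_of_isComplement' (hA : (Nat.card A).Coprime A.index) {K : Subgroup G}
    (hK : Subgroup.IsComplement' A K) :
    ∃ α : A.QuotientDiff, K = MulAction.stabilizer G α := by
  let T : A.LeftTransversal := ⟨(K : Set G), hK.symm⟩
  let α₀ : A.QuotientDiff := Quotient.mk'' T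
  refine ⟨α₀, ?_⟩
  have hle : K ≤ MulAction.stabilizer G α₀ := by
    intro k hk
    rw [MulAction.mem_stabilizer_iff]
    refine congrArg Quotient.mk'' (Subtype.ext ?_)
    ext x
    change x ∈ MulOpposite.op k⁻¹ • (K : Set G) ↔ x ∈ (K : Set G)
    rw [Set.mem_smul_set_iff_inv_smul_mem]
    simp only [← MulOpposite.op_inv, inv_inv, MulOpposite.smul_eq_mul_unop, MulOpposite.unop_op,
      SetLike.mem_coe]
    exact K.mul_mem_cancel_right hk
  refine Subgroup.eq_of_le_of_card_ge hle ?_
  have h1 : Subgroup.IsComplement' A (MulAction.stabilizer G α₀) :=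
    Subgroup.isComplement'_stabilizer_of_coprime hA
  rw [← h1.symm.index_eq_card, ← hK.symm.index_eq_card]

/-- Two complements of an abelian normal Hall subgroup `A` are conjugate by an element of `A`. -/
theorem exists_conj_eq_of_abelian (hA : (Nat.card A).Coprime A.index) {H K : Subgroup G}
    (hH : Subgroup.IsComplement' A H) (hK : Subgroup.IsComplement' A K) :
    ∃ a ∈ A, MulAut.conj a • H = K := by
  obtain ⟨α, rfl⟩ := eq_stabilizer_of_isComplement' hA hH
  obtain ⟨β, rfl⟩ := eq_stabilizer_of_isComplement' hA hK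
  obtain ⟨a, ha⟩ := Subgroup.exists_smul_eq hA α β
  exact ⟨a, a.2, by rw [← ha, Subgroup.smul_def, MulAction.stabilizer_smul_eq_stabilizer_map_conj]; rfl⟩

end Abelian

section General

set_option linter.unusedSectionVars false

variable {G : Type u} [Group G] [Finite G]

/-- A subgroup whose order is the index of a normal Hall subgroup is a complement of it. -/
theorem isComplement'_of_card_eq_index {N H : Subgroup G}
    (hN : (Nat.card N).Coprime N.index) (hH : Nat.card H = N.index) :
    Subgroup.IsComplement' N H := by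
  apply Subgroup.isComplement'_of_coprime
  · rw [hH, N.card_mul_index]
  · rwa [hH]

theorem card_eq_index_of_isComplement' {N H : Subgroup G} (h : Subgroup.IsComplement' N H) :
    Nat.card H = N.index :=
  h.symm.index_eq_card.symm

/-- A subgroup of order coprime to that of `N` meets `N` trivially. -/
theorem disjoint_of_coprime {N H : Subgroup G} (h : (Nat.card N).Coprime (Nat.card H)) :
    Disjoint H N :=
  Subgroup.disjoint_of_coprime_natCard h.symm

/-- If `g = n * h` with `h ∈ H`, the conjugates of `H` by `g` and by `n` agree. -/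
theorem exists_mem_conj_eq {N H K : Subgroup G} [N.Normal] (hNH : N ⊔ H = ⊤)
    (h : ∃ g : G, MulAut.conj g • H = K) : ∃ n ∈ N, MulAut.conj n • H = K := by
  obtain ⟨g, hg⟩ := h
  have hg' : g ∈ ((N ⊔ H : Subgroup G) : Set G) := by rw [hNH]; exact Subgroup.mem_top g
  rw [Subgroup.normal_mul, Set.mem_mul] at hg'
  obtain ⟨n, hn, x, hx, rfl⟩ := hg'
  refine ⟨n, hn, ?_⟩
  rwa [map_mul, mul_smul, Subgroup.conj_smul_eq_self_of_mem hx] at hg

/-- Case of the induction in which the normal Hall subgroup is solvable. -/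
theorem conj_step_solvable_left {N H K : Subgroup G} [N.Normal]
    (hN : (Nat.card N).Coprime N.index) (hH : Nat.card H = N.index) (hK : Nat.card K = N.index)
    (hsolv : Group.IsSolvable N) (hne : N ≠ ⊥)
    (ih : ∀ (G' : Type u) [Group G'] [Finite G'] (N' H' K' : Subgroup G') [N'.Normal],
      Nat.card G' < Nat.card G → (Nat.card N').Coprime N'.index → Nat.card H' = N'.index →
      Nat.card K' = N'.index → (Group.IsSolvable N' ∨ Group.IsSolvable H') →
      ∃ g : G', MulAut.conj g • H' = K') :
    ∃ g : G, MulAut.conj g • H = K := by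
  obtain ⟨M, hMn, hMne, hMN, hmin⟩ := exists_minimal_normal_le (G := G) ‹N.Normal› hne
  have hMsolv : Group.IsSolvable M :=
    Group.isSolvable_of_isSolvable_injective (Subgroup.inclusion_injective hMN)
  have hMcomm : IsMulCommutative M := isMulCommutative_of_minimal_normal hMne hmin
  have hcopH : (Nat.card M).Coprime (Nat.card H) := by
    rw [hH]; exact Nat.Coprime.coprime_dvd_left (Subgroup.card_dvd_of_le hMN) hN
  have hcopK : (Nat.card M).Coprime (Nat.card K) := by rw [hK, ← hH]; exact hcopH
  have hlt : Nat.card (G ⧸ M) < Nat.card G := by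
    rw [← Subgroup.index_eq_card, ← M.index_mul_card]
    exact lt_mul_of_one_lt_right (Nat.pos_of_ne_zero Subgroup.index_ne_zero_of_finite)
      (M.one_lt_card_iff_ne_bot.mpr hMne)
  have hidx : (N.map (QuotientGroup.mk' M)).index = N.index :=
    N.index_map_eq (QuotientGroup.mk'_surjective M) (by rwa [QuotientGroup.ker_mk'])
  have : (N.map (QuotientGroup.mk' M)).Normal :=
    Subgroup.Normal.map inferInstance _ (QuotientGroup.mk'_surjective M)
  obtain ⟨g', hg'⟩ := ih (G ⧸ M) (N.map (QuotientGroup.mk' M)) (H.map (QuotientGroup.mk' M))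
    (K.map (QuotientGroup.mk' M)) hlt
    (by rw [hidx]; exact Nat.Coprime.coprime_dvd_left (N.card_map_dvd _) hN)
    (by rw [hidx, card_map_mk'_of_disjoint M H (disjoint_of_coprime hcopH), hH])
    (by rw [hidx, card_map_mk'_of_disjoint M K (disjoint_of_coprime hcopK), hK])
    (Or.inl (Group.isSolvable_of_surjective (MonoidHom.subgroupMap_surjective (QuotientGroup.mk' M) N)))
  obtain ⟨g, rfl⟩ := QuotientGroup.mk'_surjective M g'
  rw [← map_conj_smul] at hg'
  -- now `gHg⁻¹` and `K` both lie in `L = K ⊔ M`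
  have hgHL : MulAut.conj g • H ≤ K ⊔ M := by
    have h1 := Subgroup.le_comap_map (QuotientGroup.mk' M) (MulAut.conj g • H)
    rwa [hg', Subgroup.comap_map_eq, QuotientGroup.ker_mk'] at h1
  let H₁ : Subgroup ↥(K ⊔ M) := (MulAut.conj g • H).subgroupOf (K ⊔ M)
  let K₁ : Subgroup ↥(K ⊔ M) := K.subgroupOf (K ⊔ M)
  let M₁ : Subgroup ↥(K ⊔ M) := M.subgroupOf (K ⊔ M)
  have hcM : Nat.card M₁ = Nat.card M :=
    Nat.card_congr (Subgroup.subgroupOfEquivOfLe le_sup_right).toEquiv
  have hcH : Nat.card H₁ = Nat.card H :=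
    (Nat.card_congr (Subgroup.subgroupOfEquivOfLe hgHL).toEquiv).trans (card_conj_smul g H)
  have hcK : Nat.card K₁ = Nat.card K :=
    Nat.card_congr (Subgroup.subgroupOfEquivOfLe le_sup_left).toEquiv
  have hM1comm : IsMulCommutative M₁ :=
    ⟨⟨fun x y => Subtype.ext (Subtype.ext
      (mul_comm_of_minimal_normal hMne hmin _ x.2 _ y.2))⟩⟩
  have hcard : Nat.card M₁ * Nat.card K₁ = Nat.card ↥(K ⊔ M) := by
    rw [hcM, hcK, mul_comm, card_sup_of_disjoint M K (disjoint_of_coprime hcopK)]
  have hidx₁ : M₁.index = Nat.card K := by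
    have h2 := hcard
    rw [← M₁.card_mul_index, hcK] at h2
    exact (Nat.eq_of_mul_eq_mul_left Nat.card_pos h2).symm
  have hA : (Nat.card M₁).Coprime M₁.index := by rw [hcM, hidx₁]; exact hcopK
  obtain ⟨a, -, ha⟩ := exists_conj_eq_of_abelian hA
    (isComplement'_of_card_eq_index hA (by rw [hcH, hidx₁, hH, hK] : Nat.card H₁ = M₁.index))
    (isComplement'_of_card_eq_index hA (by rw [hcK, hidx₁] : Nat.card K₁ = M₁.index))
  refine ⟨(a : G) * g, ?_⟩
  have h3 := congrArg (Subgroup.map (K ⊔ M).subtype) ha
  rw [map_subtype_conj_smul, Subgroup.map_subgroupOf_eq_of_le hgHL,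
    Subgroup.map_subgroupOf_eq_of_le le_sup_left] at h3
  rw [map_mul, mul_smul, h3]

/-- Case of the induction in which a complement is solvable. -/
theorem conj_step_solvable_right {N H K : Subgroup G} [N.Normal]
    (hN : (Nat.card N).Coprime N.index) (hH : Nat.card H = N.index) (hK : Nat.card K = N.index)
    (hsolv : Group.IsSolvable H) (hne : H ≠ ⊥)
    (ih : ∀ (G' : Type u) [Group G'] [Finite G'] (N' H' K' : Subgroup G') [N'.Normal],
      Nat.card G' < Nat.card G → (Nat.card N').Coprime N'.index → Nat.card H' = N'.index →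
      Nat.card K' = N'.index → (Group.IsSolvable N' ∨ Group.IsSolvable H') →
      ∃ g : G', MulAut.conj g • H' = K') :
    ∃ g : G, MulAut.conj g • H = K := by
  have hHne' : Nontrivial H := H.bot_or_nontrivial.resolve_left hne
  obtain ⟨Q₁, hQ₁n, hQ₁ne, hQ₁min⟩ := exists_minimal_normal (G := H)
  obtain ⟨p, hp, hQ₁p⟩ := exists_isPGroup_of_minimal_normal hQ₁ne hQ₁min
  have := Fact.mk hp
  let Q : Subgroup G := Q₁.map H.subtype
  have hQH : Q ≤ H := Subgroup.map_subtype_le Q₁
  have hQp : IsPGroup p Q := hQ₁p.map _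
  have hcH : Subgroup.IsComplement' N H := isComplement'_of_card_eq_index hN hH
  have hcK : Subgroup.IsComplement' N K := isComplement'_of_card_eq_index hN hK
  have hdQ : Disjoint Q N := Disjoint.mono_left hQH hcH.disjoint.symm
  have hQne : Q ≠ ⊥ := by
    intro h
    exact hQ₁ne ((Subgroup.map_eq_bot_iff_of_injective _ H.subtype_injective).mp h)
  have hpN : ¬ p ∣ Nat.card N := by
    intro h
    obtain ⟨n, hn⟩ := IsPGroup.iff_card.mp hQp
    have hn0 : n ≠ 0 := by
      intro h0
      rw [h0, pow_zero] at hn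
      exact hQne (Subgroup.card_eq_one.mp hn)
    have h1 : p ∣ N.index := by
      rw [← hH]
      exact (dvd_pow_self p hn0).trans (hn ▸ Subgroup.card_dvd_of_le hQH)
    exact hp.ne_one (Nat.eq_one_of_dvd_coprimes hN h h1)
  -- `M = Q ⊔ N` is normal in `G`
  have hMn : (Q ⊔ N).Normal := by
    rw [← Subgroup.normalizer_eq_top_iff, eq_top_iff, ← hcH.sup_eq_top, sup_le_iff]
    refine ⟨le_trans le_sup_right Subgroup.le_normalizer, ?_⟩
    intro x hx
    rw [mem_normalizer_iff_conj_smul, Subgroup.smul_sup, Subgroup.Normal.conj_smul_eq_self x N]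
    congr 1
    have h1 : MulAut.conj (⟨x, hx⟩ : H) • Q₁ = Q₁ := Subgroup.Normal.conj_smul_eq_self _ _
    have h2 := congrArg (Subgroup.map H.subtype) h1
    rwa [map_subtype_conj_smul] at h2
  have hcM : Nat.card (Q ⊔ N : Subgroup G) = Nat.card Q * Nat.card N :=
    card_sup_of_disjoint N Q hdQ
  -- the part of `K` in `M` is a conjugate of `Q`
  let P : Subgroup G := K ⊓ (Q ⊔ N)
  have hsup : P ⊔ N = Q ⊔ N := by
    refine le_antisymm (sup_le inf_le_right le_sup_right) ?_
    intro x hx
    have hx' : x ∈ ((K ⊔ N : Subgroup G) : Set G) := by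
      rw [hcK.symm.sup_eq_top]; exact Subgroup.mem_top x
    rw [Subgroup.mul_normal, Set.mem_mul] at hx'
    obtain ⟨k, hk, n, hn, rfl⟩ := hx'
    refine Subgroup.mul_mem_sup ⟨hk, ?_⟩ hn
    have : k * n * n⁻¹ ∈ Q ⊔ N :=
      (Q ⊔ N).mul_mem hx ((Q ⊔ N).inv_mem (Subgroup.mem_sup_right hn))
    rwa [mul_inv_cancel_right] at this
  have hdP : Disjoint P N := Disjoint.mono_left inf_le_left hcK.disjoint.symm
  have hcP : Nat.card P = Nat.card Q := by
    have h1 := card_sup_of_disjoint N P hdP
    rw [hsup, hcM] at h1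
    exact (Nat.eq_of_mul_eq_mul_right Nat.card_pos h1).symm
  have hPp : IsPGroup p P := by
    obtain ⟨n, hn⟩ := IsPGroup.iff_card.mp hQp
    exact IsPGroup.of_card (hcP.trans hn)
  -- Sylow's theorem in `M`
  have hnidx : ∀ (R : Subgroup G), R ≤ Q ⊔ N → Nat.card R = Nat.card Q →
      ¬ p ∣ (R.subgroupOf (Q ⊔ N)).index := by
    intro R hR hcR h
    apply hpN
    have h1 := (R.subgroupOf (Q ⊔ N)).card_mul_index
    rw [Nat.card_congr (Subgroup.subgroupOfEquivOfLe hR).toEquiv, hcM, hcR] at h1
    rwa [Nat.eq_of_mul_eq_mul_left Nat.card_pos h1] at h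
  let SQ : Sylow p ↥(Q ⊔ N) :=
    ((hQp.comap_of_injective _ (Q ⊔ N).subtype_injective :
      IsPGroup p (Q.subgroupOf (Q ⊔ N)))).toSylow (hnidx Q le_sup_left rfl)
  let SP : Sylow p ↥(Q ⊔ N) :=
    ((hPp.comap_of_injective _ (Q ⊔ N).subtype_injective :
      IsPGroup p (P.subgroupOf (Q ⊔ N)))).toSylow (hnidx P inf_le_right hcP)
  obtain ⟨m, hm⟩ := MulAction.exists_smul_eq ↥(Q ⊔ N) SQ SP
  have hm' : MulAut.conj (m : G) • Q = P := by
    have h1 : MulAut.conj m • Q.subgroupOf (Q ⊔ N) = P.subgroupOf (Q ⊔ N) := by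
      have := congrArg Sylow.toSubgroup hm
      rw [Sylow.coe_subgroup_smul] at this
      exact this
    have h2 := congrArg (Subgroup.map (Q ⊔ N).subtype) h1
    rwa [map_subtype_conj_smul, Subgroup.map_subgroupOf_eq_of_le le_sup_left,
      Subgroup.map_subgroupOf_eq_of_le inf_le_right] at h2
  -- replace `H` by its conjugate
  let H₂ : Subgroup G := MulAut.conj (m : G) • H
  suffices h : ∃ g : G, MulAut.conj g • H₂ = K by
    obtain ⟨g, hg⟩ := h
    exact ⟨g * m, by rw [map_mul, mul_smul, hg]⟩
  have hPH₂ : P ≤ H₂ := by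
    rw [← hm']
    exact Subgroup.pointwise_smul_le_pointwise_smul_iff.mpr hQH
  have hsolv₂ : Group.IsSolvable H₂ :=
    Group.isSolvable_of_surjective (Subgroup.equivSMul (MulAut.conj (m : G)) H).surjective
      (f := (Subgroup.equivSMul (MulAut.conj (m : G)) H).toMonoidHom)
  have hcH₂ : Nat.card H₂ = N.index := (card_conj_smul _ _).trans hH
  have hPnH : H₂ ≤ Subgroup.normalizer (P : Set G) := by
    intro x hx
    obtain ⟨y, hy, rfl⟩ := (Subgroup.mem_smul_pointwise_iff_exists _ _ _).mp hx
    rw [mem_normalizer_iff_conj_smul, ← hm', ← mul_smul, ← map_mul]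
    have : MulAut.conj (m : G) • y * (m : G) = (m : G) * y := by
      rw [MulAut.smul_def, MulAut.conj_apply, inv_mul_cancel_right]
    rw [this, map_mul, mul_smul]
    congr 1
    have h1 : MulAut.conj (⟨y, hy⟩ : H) • Q₁ = Q₁ := Subgroup.Normal.conj_smul_eq_self _ _
    have h2 := congrArg (Subgroup.map H.subtype) h1
    rwa [map_subtype_conj_smul] at h2
  have hPnK : K ≤ Subgroup.normalizer (P : Set G) := by
    intro k hk
    rw [mem_normalizer_iff_conj_smul, Subgroup.smul_inf, Subgroup.conj_smul_eq_self_of_mem hk,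
      Subgroup.Normal.conj_smul_eq_self]
  have hPne : P ≠ ⊥ := by
    intro h
    apply hQne
    apply Subgroup.card_eq_one.mp
    rw [← hcP, h, Subgroup.card_bot]
  by_cases hL : Subgroup.normalizer (P : Set G) = ⊤
  · have : P.Normal := Subgroup.normalizer_eq_top_iff.mp hL
    have hlt : Nat.card (G ⧸ P) < Nat.card G := by
      rw [← Subgroup.index_eq_card, ← P.index_mul_card]
      exact lt_mul_of_one_lt_right (Nat.pos_of_ne_zero Subgroup.index_ne_zero_of_finite)
        (P.one_lt_card_iff_ne_bot.mpr hPne)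
    have : (N.map (QuotientGroup.mk' P)).Normal :=
      Subgroup.Normal.map inferInstance _ (QuotientGroup.mk'_surjective P)
    have hcN : Nat.card (N.map (QuotientGroup.mk' P)) = Nat.card N :=
      card_map_mk'_of_disjoint P N hdP.symm
    have hidxeq : ∀ R : Subgroup G, P ≤ R → Nat.card R = N.index →
        Nat.card (R.map (QuotientGroup.mk' P)) = (N.map (QuotientGroup.mk' P)).index := by
      intro R hPR hcR
      have h1 : Nat.card (R.map (QuotientGroup.mk' P)) * (R.map (QuotientGroup.mk' P)).index =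
          Nat.card (N.map (QuotientGroup.mk' P)) * (N.map (QuotientGroup.mk' P)).index := by
        rw [Subgroup.card_mul_index, Subgroup.card_mul_index]
      rw [R.index_map_eq (QuotientGroup.mk'_surjective P) (by rwa [QuotientGroup.ker_mk'])] at h1
      have h2 : R.index = Nat.card N := by
        have h3 := R.card_mul_index
        rw [hcR, ← N.index_mul_card] at h3
        exact Nat.eq_of_mul_eq_mul_left (Nat.pos_of_ne_zero Subgroup.index_ne_zero_of_finite) h3
      rw [h2, hcN, mul_comm] at h1
      exact Nat.eq_of_mul_eq_mul_left Nat.card_pos h1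
    obtain ⟨g', hg'⟩ := ih (G ⧸ P) (N.map (QuotientGroup.mk' P)) (H₂.map (QuotientGroup.mk' P))
      (K.map (QuotientGroup.mk' P)) hlt
      (by
        rw [← hidxeq K inf_le_left hK, hcN]
        exact Nat.Coprime.coprime_dvd_right (K.card_map_dvd _) (hK ▸ hN))
      (hidxeq H₂ hPH₂ hcH₂) (hidxeq K inf_le_left hK)
      (Or.inr (Group.isSolvable_of_surjective
        (MonoidHom.subgroupMap_surjective (QuotientGroup.mk' P) H₂)))
    obtain ⟨g, rfl⟩ := QuotientGroup.mk'_surjective P g'
    rw [← map_conj_smul] at hg'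
    refine ⟨g, ?_⟩
    have h4 := congrArg (Subgroup.comap (QuotientGroup.mk' P)) hg'
    have hPg : P ≤ MulAut.conj g • H₂ := by
      rw [← (Subgroup.Normal.conj_smul_eq_self g P)]
      exact Subgroup.pointwise_smul_le_pointwise_smul_iff.mpr hPH₂
    rwa [comap_map_mk'_of_le hPg, comap_map_mk'_of_le (inf_le_left : P ≤ K)] at h4
  · let L : Subgroup G := Subgroup.normalizer (P : Set G)
    have hlt : Nat.card L < Nat.card G := by
      rw [← L.card_mul_index]
      exact lt_mul_of_one_lt_right Nat.card_pos (L.one_lt_index_of_ne_top hL)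
    have hidxL : (N.subgroupOf L).index = N.index := by
      have h1 : K ⊔ N = ⊤ := hcK.symm.sup_eq_top
      have h2 : L ⊔ N = ⊤ := top_le_iff.mp (h1 ▸ sup_le_sup_right hPnK N)
      rw [← N.relIndex_top_right, ← h2, Subgroup.relIndex_sup_right]
      rfl
    obtain ⟨g, hg⟩ := ih L (N.subgroupOf L) (H₂.subgroupOf L) (K.subgroupOf L) hlt
      (by
        rw [hidxL]
        exact Nat.Coprime.coprime_dvd_left
          (Subgroup.card_comap_dvd_of_injective N L.subtype L.subtype_injective) hN)
      (by rw [hidxL, Nat.card_congr (Subgroup.subgroupOfEquivOfLe hPnH).toEquiv, hcH₂])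
      (by rw [hidxL, Nat.card_congr (Subgroup.subgroupOfEquivOfLe hPnK).toEquiv, hK])
      (Or.inr (Group.isSolvable_of_isSolvable_injective
        (f := (Subgroup.subgroupOfEquivOfLe hPnH).toMonoidHom)
        (Subgroup.subgroupOfEquivOfLe hPnH).injective))
    refine ⟨(g : G), ?_⟩
    have h3 := congrArg (Subgroup.map L.subtype) hg
    rwa [map_subtype_conj_smul, Subgroup.map_subgroupOf_eq_of_le hPnH,
      Subgroup.map_subgroupOf_eq_of_le hPnK] at h3

private theorem exists_conj_eq_aux (n : ℕ) :
    ∀ (G : Type u) [Group G] [Finite G] (N H K : Subgroup G) [N.Normal],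
      Nat.card G < n → (Nat.card N).Coprime N.index → Nat.card H = N.index →
      Nat.card K = N.index → (Group.IsSolvable N ∨ Group.IsSolvable H) →
      ∃ g : G, MulAut.conj g • H = K := by
  induction n with
  | zero => intro G _ _ N H K _ h; exact absurd h (Nat.not_lt_zero _)
  | succ n ih =>
    intro G _ _ N H K _ hlt hN hH hK hsolv
    have ih' : ∀ (G' : Type u) [Group G'] [Finite G'] (N' H' K' : Subgroup G') [N'.Normal],
        Nat.card G' < Nat.card G → (Nat.card N').Coprime N'.index → Nat.card H' = N'.index →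
        Nat.card K' = N'.index → (Group.IsSolvable N' ∨ Group.IsSolvable H') →
        ∃ g : G', MulAut.conj g • H' = K' := by
      intro G' _ _ N' H' K' _ hlt'
      exact ih G' N' H' K' (hlt'.trans_le (Nat.lt_succ_iff.mp hlt))
    by_cases hN' : N = ⊥
    · subst hN'
      rw [Subgroup.index_bot] at hH hK
      exact ⟨1, by rw [Subgroup.eq_top_of_card_eq H hH, Subgroup.eq_top_of_card_eq K hK,
        map_one, one_smul]⟩
    by_cases hH' : H = ⊥
    · subst hH'
      rw [Subgroup.card_bot] at hH
      rw [← hH] at hK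
      exact ⟨1, by rw [Subgroup.card_eq_one.mp hK, map_one, one_smul]⟩
    rcases hsolv with h | h
    · exact conj_step_solvable_left hN hH hK h hN' ih'
    · exact conj_step_solvable_right hN hH hK h hH' ih'

/-- The order of a complement determines it up to conjugacy by an element of `N`: subgroups `H`, `K`
of order `N.index` are conjugate if `N` is a normal Hall subgroup and `N` or `H` is solvable. -/
theorem exists_conj_eq_of_card {N H K : Subgroup G} [N.Normal]
    (hN : (Nat.card N).Coprime N.index) (hH : Nat.card H = N.index) (hK : Nat.card K = N.index)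
    (hsolv : Group.IsSolvable N ∨ Group.IsSolvable H) : ∃ n ∈ N, MulAut.conj n • H = K :=
  exists_mem_conj_eq (isComplement'_of_card_eq_index hN hH).sup_eq_top
    (exists_conj_eq_aux (Nat.card G + 1) G N H K (Nat.lt_succ_self _) hN hH hK hsolv)

/-- Solvability of a complement of `N` is solvability of `G ⧸ N`. -/
theorem isSolvable_complement_iff {N H : Subgroup G} [N.Normal]
    (h : Subgroup.IsComplement' N H) : Group.IsSolvable H ↔ Group.IsSolvable (G ⧸ N) :=
  ⟨fun _ => Group.isSolvable_of_surjective (f := h.symm.QuotientMulEquiv.symm.toMonoidHom)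
      h.symm.QuotientMulEquiv.symm.surjective,
    fun _ => Group.isSolvable_of_surjective (f := h.symm.QuotientMulEquiv.toMonoidHom)
      h.symm.QuotientMulEquiv.surjective⟩

/-- **Schur–Zassenhaus**, conjugacy part. -/
theorem exists_conj_eq_of_isComplement' {N H K : Subgroup G} [N.Normal]
    (hN : (Nat.card N).Coprime N.index) (hsolv : Group.IsSolvable N ∨ Group.IsSolvable (G ⧸ N))
    (hH : Subgroup.IsComplement' N H) (hK : Subgroup.IsComplement' N K) :
    ∃ n ∈ N, MulAut.conj n • H = K :=
  exists_conj_eq_of_card hN (card_eq_index_of_isComplement' hH) (card_eq_index_of_isComplement' hK)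
    (hsolv.imp_right (isSolvable_complement_iff hH).mpr)

/-- A subgroup of order coprime to the normal Hall subgroup `N` lies in a conjugate of any
complement of `N`, when `N` or `G ⧸ N` is solvable. -/
theorem exists_conj_le_of_coprime {N H U : Subgroup G} [N.Normal]
    (hsolv : Group.IsSolvable N ∨ Group.IsSolvable (G ⧸ N))
    (hH : Subgroup.IsComplement' N H) (hU : (Nat.card U).Coprime (Nat.card N)) :
    ∃ n ∈ N, MulAut.conj n • U ≤ H := by
  have hdU : Disjoint U N := disjoint_of_coprime hU.symm
  let V : Subgroup G := H ⊓ (U ⊔ N)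
  have hsup : V ⊔ N = U ⊔ N := by
    refine le_antisymm (sup_le inf_le_right le_sup_right) ?_
    intro x hx
    have hx' : x ∈ ((H ⊔ N : Subgroup G) : Set G) := by
      rw [hH.symm.sup_eq_top]; exact Subgroup.mem_top x
    rw [Subgroup.mul_normal, Set.mem_mul] at hx'
    obtain ⟨k, hk, n, hn, rfl⟩ := hx'
    refine Subgroup.mul_mem_sup ⟨hk, ?_⟩ hn
    have : k * n * n⁻¹ ∈ U ⊔ N :=
      (U ⊔ N).mul_mem hx ((U ⊔ N).inv_mem (Subgroup.mem_sup_right hn))
    rwa [mul_inv_cancel_right] at this
  have hdV : Disjoint V N := Disjoint.mono_left inf_le_left hH.disjoint.symm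
  have hcV : Nat.card V = Nat.card U := by
    have h1 := card_sup_of_disjoint N V hdV
    rw [hsup, card_sup_of_disjoint N U hdU] at h1
    exact (Nat.eq_of_mul_eq_mul_right Nat.card_pos h1).symm
  let L : Subgroup G := U ⊔ N
  have hcN : Nat.card (N.subgroupOf L) = Nat.card N :=
    Nat.card_congr (Subgroup.subgroupOfEquivOfLe le_sup_right).toEquiv
  have hidx : (N.subgroupOf L).index = Nat.card U := by
    have h1 := (N.subgroupOf L).index_mul_card
    rw [hcN, card_sup_of_disjoint N U hdU] at h1
    exact Nat.eq_of_mul_eq_mul_right Nat.card_pos h1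
  have hs : Group.IsSolvable (N.subgroupOf L) ∨ Group.IsSolvable (U.subgroupOf L) := by
    rcases hsolv with h | h
    · exact Or.inl (Group.isSolvable_of_isSolvable_injective
        (f := (Subgroup.subgroupOfEquivOfLe (le_sup_right : N ≤ L)).toMonoidHom)
        (Subgroup.subgroupOfEquivOfLe (le_sup_right : N ≤ L)).injective)
    · refine Or.inr (Group.isSolvable_of_isSolvable_injective
        (f := ((QuotientGroup.mk' N).comp L.subtype).comp (U.subgroupOf L).subtype) ?_)
      rw [injective_iff_map_eq_one]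
      intro x hx
      apply Subtype.ext
      apply Subtype.ext
      have h1 : ((x : L) : G) ∈ U ⊓ N := ⟨x.2, (QuotientGroup.eq_one_iff _).mp hx⟩
      rw [hdU.eq_bot] at h1
      exact h1
  obtain ⟨a, ha, hconj⟩ := exists_conj_eq_of_card (N := N.subgroupOf L)
    (H := U.subgroupOf L) (K := V.subgroupOf L)
    (by rw [hcN, hidx]; exact hU.symm)
    (by rw [hidx, Nat.card_congr (Subgroup.subgroupOfEquivOfLe le_sup_left).toEquiv])
    (by rw [hidx, Nat.card_congr (Subgroup.subgroupOfEquivOfLe inf_le_right).toEquiv]; exact hcV)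
    hs
  refine ⟨(a : G), ha, ?_⟩
  have h3 := congrArg (Subgroup.map L.subtype) hconj
  rw [map_subtype_conj_smul, Subgroup.map_subgroupOf_eq_of_le le_sup_left,
    Subgroup.map_subgroupOf_eq_of_le (inf_le_right : V ≤ L)] at h3
  rw [h3]
  exact inf_le_left

end General

end CfsgLib.Solvable
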