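import Cfsg.Prelude.Def_HallClasses
import Cfsg.Agent.Solvable.SchurZassenhaus

/-!
# Hall's theorems for finite solvable groups

* `exists_isPiHall`, `exists_conj_le_isPiHall`, `exists_conj_eq_isPiHall`, `exists_isPiHall_ge`.
* `isPiHall_map`, `isPiHall_subgroupOf`, `isPiHall_inf_normal`, `le_isPiHall_of_normal`.
* `frattini_argument_hall`: `L ⊔ N(H) = ⊤` for a Hall subgroup `H` of a normal solvable `L`.
* versions by orders: `exists_card_eq_of_coprime`, `exists_conj_le_of_card_coprime`.
-/

set_option autoImplicit false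
set_option linter.unusedSectionVars false

namespace CfsgLib.Solvable

open scoped Pointwise

universe u

section Numbers

variable {π : Set ℕ}

theorem piNat_of_dvd {a b : ℕ} (h : ∀ p : ℕ, p.Prime → p ∣ b → p ∈ π) (hab : a ∣ b) :
    ∀ p : ℕ, p.Prime → p ∣ a → p ∈ π :=
  fun p hp hpa => h p hp (hpa.trans hab)

theorem piNat_mul {a b : ℕ} (ha : ∀ p : ℕ, p.Prime → p ∣ a → p ∈ π)
    (hb : ∀ p : ℕ, p.Prime → p ∣ b → p ∈ π) : ∀ p : ℕ, p.Prime → p ∣ a * b → p ∈ π :=
  fun p hp hpab => (hp.dvd_mul.mp hpab).elim (ha p hp) (hb p hp)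

theorem coprime_of_piNat {a b : ℕ} (ha : ∀ p : ℕ, p.Prime → p ∣ a → p ∈ π)
    (hb : ∀ p : ℕ, p.Prime → p ∈ π → ¬ p ∣ b) : a.Coprime b :=
  Nat.coprime_of_dvd fun p hp hpa hpb => hb p hp (ha p hp hpa) hpb

theorem piNat_of_isPGroup {G : Type*} [Group G] [Finite G] {p : ℕ} (hp : p.Prime) (hpπ : p ∈ π)
    {U : Subgroup G} (hU : IsPGroup p U) : Cfsg.IsPiSubgroup π U := by
  have := Fact.mk hp
  intro q hq hqU
  obtain ⟨n, hn⟩ := IsPGroup.iff_card.mp hU
  rw [hn] at hqU
  rwa [(Nat.prime_dvd_prime_iff_eq hq hp).mp (hq.dvd_of_dvd_pow hqU)]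

end Numbers

variable {G : Type u} [Group G] [Finite G] {π : Set ℕ}

theorem card_comap_mk' (N : Subgroup G) [N.Normal] (H : Subgroup (G ⧸ N)) :
    Nat.card (H.comap (QuotientGroup.mk' N)) = Nat.card H * Nat.card N := by
  have h1 := (H.comap (QuotientGroup.mk' N)).card_mul_index
  rw [Subgroup.index_comap_of_surjective _ (QuotientGroup.mk'_surjective N),
    N.card_eq_card_quotient_mul_card_subgroup, ← H.card_mul_index, mul_right_comm] at h1
  exact Nat.eq_of_mul_eq_mul_right (Nat.pos_of_ne_zero Subgroup.index_ne_zero_of_finite) h1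

theorem isPiHall_map {G' : Type*} [Group G'] {f : G →* G'} (hf : Function.Surjective f)
    {H : Subgroup G} (hH : Cfsg.IsPiHall π H) : Cfsg.IsPiHall π (H.map f) :=
  ⟨piNat_of_dvd hH.1 (H.card_map_dvd f),
    fun p hp hpπ h => hH.2 p hp hpπ (h.trans (H.index_map_dvd hf))⟩

theorem isPiHall_subgroupOf {H K : Subgroup G} (hH : Cfsg.IsPiHall π H) (hHK : H ≤ K) :
    Cfsg.IsPiHall π (H.subgroupOf K) :=
  ⟨by rw [Nat.card_congr (Subgroup.subgroupOfEquivOfLe hHK).toEquiv]; exact hH.1,
    fun p hp hpπ h => hH.2 p hp hpπ (h.trans (Subgroup.relIndex_dvd_index_of_le hHK))⟩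

theorem isPiHall_conj_smul {H : Subgroup G} (hH : Cfsg.IsPiHall π H) (g : G) :
    Cfsg.IsPiHall π (MulAut.conj g • H : Subgroup G) := by
  unfold Cfsg.IsPiHall
  rw [card_conj_smul, index_conj_smul]
  exact hH

/-- A Hall subgroup is not contained in a bigger `π`-subgroup. -/
theorem eq_of_isPiHall_le {H K : Subgroup G} (hH : Cfsg.IsPiHall π H)
    (hK : Cfsg.IsPiSubgroup π K) (hHK : H ≤ K) : H = K := by
  refine le_antisymm hHK (Subgroup.relIndex_eq_one.mp (Nat.eq_one_of_dvd_coprimes
    (coprime_of_piNat (a := H.relIndex K) (b := H.index)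
      (piNat_of_dvd hK (Subgroup.relIndex_dvd_card _ _)) hH.2)
    dvd_rfl (Subgroup.relIndex_dvd_index_of_le hHK)))

/-- A normal `π`-subgroup lies in every Hall `π`-subgroup. -/
theorem le_isPiHall_of_normal {H N : Subgroup G} [N.Normal] (hH : Cfsg.IsPiHall π H)
    (hN : Cfsg.IsPiSubgroup π N) : N ≤ H := by
  have h1 : Cfsg.IsPiSubgroup π (H ⊔ N) := by
    have h2 : Nat.card (H ⊔ N : Subgroup G) = N.relIndex H * Nat.card N := by
      have h3 := (N.subgroupOf (H ⊔ N)).index_mul_card
      rw [Nat.card_congr (Subgroup.subgroupOfEquivOfLe le_sup_right).toEquiv] at h3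
      rw [← h3, ← Subgroup.relIndex, Subgroup.relIndex_sup_right]
    unfold Cfsg.IsPiSubgroup
    rw [h2]
    exact piNat_mul (piNat_of_dvd hH.1 (Subgroup.relIndex_dvd_card _ _)) hN
  rw [eq_of_isPiHall_le hH h1 le_sup_left]
  exact le_sup_right

/-- The intersection of a Hall subgroup with a normal subgroup is a Hall subgroup of it. -/
theorem isPiHall_inf_normal {H L : Subgroup G} [L.Normal] (hH : Cfsg.IsPiHall π H) :
    Cfsg.IsPiHall π ((H ⊓ L).subgroupOf L) := by
  constructor
  · rw [Nat.card_congr (Subgroup.subgroupOfEquivOfLe inf_le_right).toEquiv]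
    exact piNat_of_dvd hH.1 (Subgroup.card_dvd_of_le inf_le_left)
  · intro p hp hpπ h
    refine hH.2 p hp hpπ (h.trans ?_)
    change (H ⊓ L).relIndex L ∣ H.index
    rw [Subgroup.inf_relIndex_right]
    have h1 := Subgroup.relIndex_mul_relIndex (H ⊓ L) H (L ⊔ H) inf_le_left le_sup_right
    have h2 := Subgroup.relIndex_mul_relIndex (H ⊓ L) L (L ⊔ H) inf_le_right le_sup_left
    rw [Subgroup.inf_relIndex_left] at h1
    rw [Subgroup.inf_relIndex_right, Subgroup.relIndex_sup_left] at h2
    have h3 : H.relIndex (L ⊔ H) = H.relIndex L := by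
      rw [← h2, mul_comm (H.relIndex L)] at h1
      exact Nat.eq_of_mul_eq_mul_left (Nat.pos_of_ne_zero Subgroup.index_ne_zero_of_finite) h1
    rw [← h3]
    exact Subgroup.relIndex_dvd_index_of_le le_sup_right

private theorem hall_aux (n : ℕ) :
    ∀ (G : Type u) [Group G] [Finite G], Group.IsSolvable G → Nat.card G < n →
      (∃ H : Subgroup G, Cfsg.IsPiHall π H) ∧
      ∀ H U : Subgroup G, Cfsg.IsPiHall π H → Cfsg.IsPiSubgroup π U →
        ∃ g : G, MulAut.conj g • U ≤ H := by
  induction n with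
  | zero => intro G _ _ _ h; exact absurd h (Nat.not_lt_zero _)
  | succ n ih =>
    intro G _ _ hsol hlt
    rcases subsingleton_or_nontrivial G with hs | hs
    · refine ⟨⟨⊥, ?_, ?_⟩, fun H U _ _ => ⟨1, fun x _ => ?_⟩⟩
      · rw [Subgroup.card_bot]
        exact fun p hp h => absurd (Nat.dvd_one.mp h) hp.ne_one
      · rw [Subgroup.index_bot, Nat.card_unique]
        exact fun p hp _ h => hp.ne_one (Nat.dvd_one.mp h)
      · rw [Subsingleton.elim x 1]
        exact one_mem _
    obtain ⟨M, hMn, hMne, hmin⟩ := exists_minimal_normal (G := G)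
    obtain ⟨p, hp, hMp⟩ := exists_isPGroup_of_minimal_normal hMne hmin
    let f := QuotientGroup.mk' M
    have hsurj : Function.Surjective f := QuotientGroup.mk'_surjective M
    have hltq : Nat.card (G ⧸ M) < n := by
      refine lt_of_lt_of_le ?_ (Nat.lt_succ_iff.mp hlt)
      rw [← Subgroup.index_eq_card, ← M.index_mul_card]
      exact lt_mul_of_one_lt_right (Nat.pos_of_ne_zero Subgroup.index_ne_zero_of_finite)
        (M.one_lt_card_iff_ne_bot.mpr hMne)
    obtain ⟨⟨Hb, hHb⟩, hdom⟩ := ih (G ⧸ M) inferInstance hltq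
    let L : Subgroup G := Hb.comap f
    have hLidx : L.index = Hb.index := Subgroup.index_comap_of_surjective _ hsurj
    have hLcard : Nat.card L = Nat.card Hb * Nat.card M := card_comap_mk' M Hb
    constructor
    · by_cases hpπ : p ∈ π
      · refine ⟨L, ?_, hLidx ▸ hHb.2⟩
        rw [hLcard]
        exact piNat_mul hHb.1 (piNat_of_isPGroup hp hpπ hMp)
      · have hpN : ∀ q : ℕ, q.Prime → q ∈ π → ¬ q ∣ Nat.card M := by
          intro q hq hqπ hqM
          have := Fact.mk hp
          obtain ⟨k, hk⟩ := IsPGroup.iff_card.mp hMp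
          rw [hk] at hqM
          exact hpπ ((Nat.prime_dvd_prime_iff_eq hq hp).mp (hq.dvd_of_dvd_pow hqM) ▸ hqπ)
        have hML : M ≤ L := by
          conv_lhs => rw [← QuotientGroup.ker_mk' M]
          exact Subgroup.ker_le_comap f _
        have hcM : Nat.card (M.subgroupOf L) = Nat.card M :=
          Nat.card_congr (Subgroup.subgroupOfEquivOfLe hML).toEquiv
        have hidx : (M.subgroupOf L).index = Nat.card Hb := by
          have h1 := (M.subgroupOf L).index_mul_card
          rw [hcM, hLcard] at h1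
          exact Nat.eq_of_mul_eq_mul_right Nat.card_pos h1
        obtain ⟨K, hK⟩ := Subgroup.exists_right_complement'_of_coprime (N := M.subgroupOf L)
          (by rw [hcM, hidx]; exact (coprime_of_piNat hHb.1 hpN).symm)
        have hcK : Nat.card (K.map L.subtype) = Nat.card Hb := by
          rw [Subgroup.card_map_of_injective L.subtype_injective,
            card_eq_index_of_isComplement' hK, hidx]
        refine ⟨K.map L.subtype, hcK ▸ hHb.1, ?_⟩
        intro q hq hqπ hqd
        rw [Subgroup.index_map_subtype, hLidx, hK.index_eq_card, hcM] at hqd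
        rcases hq.dvd_mul.mp hqd with h | h
        · exact hpN q hq hqπ h
        · exact hHb.2 q hq hqπ h
    · intro H U hH hU
      obtain ⟨g', hg'⟩ := hdom (H.map f) (U.map f) (isPiHall_map hsurj hH)
        (piNat_of_dvd hU (U.card_map_dvd f))
      obtain ⟨g, rfl⟩ := hsurj g'
      rw [← map_conj_smul] at hg'
      have hle : MulAut.conj g • U ≤ H ⊔ M := by
        have h1 := (Subgroup.le_comap_map f _).trans (Subgroup.comap_mono hg')
        rwa [Subgroup.comap_map_eq, QuotientGroup.ker_mk'] at h1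
      by_cases hpπ : p ∈ π
      · refine ⟨g, hle.trans (sup_le le_rfl (le_isPiHall_of_normal hH ?_))⟩
        exact piNat_of_isPGroup hp hpπ hMp
      · let K : Subgroup G := H ⊔ M
        have hpN : ∀ q : ℕ, q.Prime → q ∈ π → ¬ q ∣ Nat.card M := by
          intro q hq hqπ hqM
          have := Fact.mk hp
          obtain ⟨k, hk⟩ := IsPGroup.iff_card.mp hMp
          rw [hk] at hqM
          exact hpπ ((Nat.prime_dvd_prime_iff_eq hq hp).mp (hq.dvd_of_dvd_pow hqM) ▸ hqπ)
        have hcop : (Nat.card M).Coprime (Nat.card H) := (coprime_of_piNat hH.1 hpN).symm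
        have hcomp : Subgroup.IsComplement' (M.subgroupOf K) (H.subgroupOf K) := by
          apply Subgroup.isComplement'_of_coprime
          · rw [Nat.card_congr (Subgroup.subgroupOfEquivOfLe (le_sup_right : M ≤ K)).toEquiv,
              Nat.card_congr (Subgroup.subgroupOfEquivOfLe (le_sup_left : H ≤ K)).toEquiv,
              card_sup_of_disjoint M H (disjoint_of_coprime hcop), mul_comm]
          · rwa [Nat.card_congr (Subgroup.subgroupOfEquivOfLe (le_sup_right : M ≤ K)).toEquiv,
              Nat.card_congr (Subgroup.subgroupOfEquivOfLe (le_sup_left : H ≤ K)).toEquiv]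
        obtain ⟨k, -, hk⟩ := exists_conj_le_of_coprime (N := M.subgroupOf K)
          (H := H.subgroupOf K) (U := (MulAut.conj g • U).subgroupOf K)
          (Or.inl inferInstance) hcomp (by
            rw [Nat.card_congr (Subgroup.subgroupOfEquivOfLe hle).toEquiv, card_conj_smul,
              Nat.card_congr (Subgroup.subgroupOfEquivOfLe (le_sup_right : M ≤ K)).toEquiv]
            exact coprime_of_piNat hU hpN)
        refine ⟨(k : G) * g, ?_⟩
        have h3 := Subgroup.map_mono (f := K.subtype) hk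
        rw [map_subtype_conj_smul, Subgroup.map_subgroupOf_eq_of_le hle,
          Subgroup.map_subgroupOf_eq_of_le (le_sup_left : H ≤ K)] at h3
        rwa [map_mul, mul_smul]

variable [hsolv : Group.IsSolvable G]

/-- Hall: existence. -/
theorem exists_isPiHall (π : Set ℕ) (G : Type u) [Group G] [Finite G] [Group.IsSolvable G] :
    ∃ H : Subgroup G, Cfsg.IsPiHall π H :=
  (hall_aux _ G inferInstance (Nat.lt_succ_self _)).1

/-- Hall: every `π`-subgroup lies in a conjugate of any given Hall `π`-subgroup. -/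
theorem exists_conj_le_isPiHall {H U : Subgroup G} (hH : Cfsg.IsPiHall π H)
    (hU : Cfsg.IsPiSubgroup π U) : ∃ g : G, MulAut.conj g • U ≤ H :=
  (hall_aux _ G hsolv (Nat.lt_succ_self _)).2 H U hH hU

/-- Hall: conjugacy. -/
theorem exists_conj_eq_isPiHall {H K : Subgroup G} (hH : Cfsg.IsPiHall π H)
    (hK : Cfsg.IsPiHall π K) : ∃ g : G, MulAut.conj g • H = K := by
  obtain ⟨g, hg⟩ := exists_conj_le_isPiHall hK hH.1
  exact ⟨g, eq_of_isPiHall_le (isPiHall_conj_smul hH g) hK.1 hg⟩

/-- Hall: every `π`-subgroup lies in a Hall `π`-subgroup. -/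
theorem exists_isPiHall_ge {U : Subgroup G} (hU : Cfsg.IsPiSubgroup π U) :
    ∃ H : Subgroup G, Cfsg.IsPiHall π H ∧ U ≤ H := by
  obtain ⟨H, hH⟩ := exists_isPiHall π G
  obtain ⟨g, hg⟩ := exists_conj_le_isPiHall hH hU
  refine ⟨MulAut.conj g⁻¹ • H, isPiHall_conj_smul hH _, ?_⟩
  rw [map_inv]
  exact Subgroup.subset_pointwise_smul_iff.mpr (by rwa [inv_inv])

omit hsolv in
/-- Generalised Frattini argument. -/
theorem frattini_argument_hall {L H : Subgroup G} [L.Normal] (hL : Group.IsSolvable L)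
    (hHL : H ≤ L) (hH : Cfsg.IsPiHall π (H.subgroupOf L)) :
    L ⊔ Subgroup.normalizer (H : Set G) = ⊤ := by
  refine top_le_iff.mp fun g _ => ?_
  have hgL : MulAut.conj g • H ≤ L := by
    conv_rhs => rw [← Subgroup.Normal.conj_smul_eq_self g L]
    exact Subgroup.pointwise_smul_le_pointwise_smul_iff.mpr hHL
  have hg : Cfsg.IsPiHall π ((MulAut.conj g • H).subgroupOf L) := by
    have hcard : Nat.card ((MulAut.conj g • H).subgroupOf L) = Nat.card (H.subgroupOf L) := by
      rw [Nat.card_congr (Subgroup.subgroupOfEquivOfLe hgL).toEquiv, card_conj_smul,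
        Nat.card_congr (Subgroup.subgroupOfEquivOfLe hHL).toEquiv]
    have hidx : ((MulAut.conj g • H).subgroupOf L).index = (H.subgroupOf L).index := by
      have h1 := ((MulAut.conj g • H).subgroupOf L).card_mul_index
      rw [← (H.subgroupOf L).card_mul_index, hcard] at h1
      exact Nat.eq_of_mul_eq_mul_left Nat.card_pos h1
    exact ⟨hcard ▸ hH.1, hidx ▸ hH.2⟩
  obtain ⟨l, hl⟩ := exists_conj_eq_isPiHall hg hH
  have h2 := congrArg (Subgroup.map L.subtype) hl
  rw [map_subtype_conj_smul, Subgroup.map_subgroupOf_eq_of_le hgL,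
    Subgroup.map_subgroupOf_eq_of_le hHL, ← mul_smul, ← map_mul] at h2
  have h3 : g = ((l : G))⁻¹ * ((l : G) * g) := by rw [inv_mul_cancel_left]
  rw [h3]
  exact Subgroup.mul_mem_sup (L.inv_mem l.2) (mem_normalizer_iff_conj_smul.mpr h2)

omit hsolv in
/-- For `|G| = m * n` with `m`, `n` coprime, Hall subgroups for the primes of `m` are the
subgroups of order `m`. -/
theorem isPiHall_primes_iff {m n : ℕ} (hG : Nat.card G = m * n) (hmn : m.Coprime n)
    {H : Subgroup G} : Cfsg.IsPiHall {p : ℕ | p ∣ m} H ↔ Nat.card H = m := by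
  constructor
  · rintro ⟨h1, h2⟩
    apply Nat.dvd_antisymm
    · refine (coprime_of_piNat (a := Nat.card H) (b := n) h1 ?_).dvd_of_dvd_mul_right
        (hG ▸ Subgroup.card_subgroup_dvd_card H)
      exact fun p hp hpm hpn => hp.ne_one (Nat.eq_one_of_dvd_coprimes hmn hpm hpn)
    · have hcop : m.Coprime H.index :=
        Nat.coprime_of_dvd fun p hp hpm hpi => h2 p hp hpm hpi
      exact hcop.dvd_of_dvd_mul_right (H.card_mul_index.trans hG ▸ dvd_mul_right m n)
  · intro h
    have hidx : H.index = n := by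
      have h1 := H.card_mul_index
      rw [h, hG] at h1
      rcases Nat.eq_zero_or_pos m with hm | hm
      · exact absurd (h.trans hm) Nat.card_pos.ne'
      · exact Nat.eq_of_mul_eq_mul_left hm h1
    refine ⟨fun p hp hpd => ?_, fun p hp hpm hpi => ?_⟩
    · rwa [h] at hpd
    · rw [hidx] at hpi
      exact hp.ne_one (Nat.eq_one_of_dvd_coprimes hmn hpm hpi)

/-- Hall existence by order. -/
theorem exists_card_eq_of_coprime {m n : ℕ} (hG : Nat.card G = m * n) (hmn : m.Coprime n) :
    ∃ H : Subgroup G, Nat.card H = m := by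
  obtain ⟨H, hH⟩ := exists_isPiHall {p : ℕ | p ∣ m} G
  exact ⟨H, (isPiHall_primes_iff hG hmn).mp hH⟩

omit hsolv in
theorem piSubgroup_primes_of_coprime {m n : ℕ} (hG : Nat.card G = m * n) {U : Subgroup G}
    (hU : (Nat.card U).Coprime n) : Cfsg.IsPiSubgroup {p : ℕ | p ∣ m} U :=
  fun p hp hpd => hpd.trans (hU.dvd_of_dvd_mul_right (hG ▸ U.card_subgroup_dvd_card))

/-- Hall dominance by order. -/
theorem exists_conj_le_of_card_coprime {m n : ℕ} (hG : Nat.card G = m * n) (hmn : m.Coprime n)
    {H U : Subgroup G} (hH : Nat.card H = m) (hU : (Nat.card U).Coprime n) :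
    ∃ g : G, MulAut.conj g • U ≤ H :=
  exists_conj_le_isPiHall ((isPiHall_primes_iff hG hmn).mpr hH)
    (piSubgroup_primes_of_coprime hG hU)

end CfsgLib.Solvable
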