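import Mathlib.GroupTheory.Frattini
import Mathlib.GroupTheory.SchurZassenhaus
import Mathlib.Data.Nat.Prime.Int
import Mathlib.RingTheory.PrincipalIdealDomain
import Mathlib.Algebra.EuclideanDomain.Int
import Cfsg.Agent.Solvable.Fitting

/-!
# The Frattini subgroup of a finite group

* `isNilpotent_of_map_frattini`: a normal `N ≥ Φ(G)` nilpotent modulo `Φ(G)` is nilpotent.
* `isNilpotent_of_frattini_quotient`, `fittingSubgroup_quotient_frattini`.
* `dvd_index_frattini`, `exists_complement_iff_not_le_frattini`.
* `commutator_le_frattini`, `pow_mem_frattini`, `frattini_le_of_elementary` for `p`-groups.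
* `burnside_basis_subset`, `burnside_basis_le_card`.
-/

set_option autoImplicit false

open commutatorElement

namespace CfsgLib.Solvable

open scoped Pointwise

variable {G : Type*} [Group G] [Finite G]

theorem eq_top_of_sup_frattini {K : Subgroup G} (h : K ⊔ frattini G = ⊤) : K = ⊤ :=
  frattini_nongenerating h

theorem exists_coatom_ge {H : Subgroup G} (h : H ≠ ⊤) :
    ∃ M : Subgroup G, IsCoatom M ∧ H ≤ M :=
  (eq_top_or_exists_le_coatom H).resolve_left h

omit [Finite G] in
theorem mem_frattini_iff {x : G} : x ∈ frattini G ↔ ∀ M : Subgroup G, IsCoatom M → x ∈ M := by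
  simp [frattini, Order.radical, Subgroup.mem_iInf]

/-- A normal subgroup containing `Φ(G)` and nilpotent modulo it is nilpotent. -/
theorem isNilpotent_of_map_frattini {N : Subgroup G} [N.Normal] (hle : frattini G ≤ N)
    (hN : Group.IsNilpotent (N.map (QuotientGroup.mk' (frattini G)))) : Group.IsNilpotent N := by
  have key := (Group.isNilpotent_of_finite_tfae (G := N)).out 0 3
  rw [key]
  intro p _ P
  let f := QuotientGroup.mk' (frattini G)
  let g : N →* N.map f := f.subgroupMap N
  have hg : Function.Surjective g := MonoidHom.subgroupMap_surjective f N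
  let P' : Sylow p (N.map f) := P.mapSurjective hg
  have hP'c : (P' : Subgroup (N.map f)).Characteristic :=
    P'.characteristic_of_normal inferInstance
  have : (N.map f).Normal := Subgroup.Normal.map inferInstance f (QuotientGroup.mk'_surjective _)
  let R : Subgroup G := (P : Subgroup N).map N.subtype ⊔ frattini G
  have hR : R = ((P' : Subgroup (N.map f)).map (N.map f).subtype).comap f := by
    have h1 : (P' : Subgroup (N.map f)).map (N.map f).subtype =
        ((P : Subgroup N).map N.subtype).map f := by
      rw [Sylow.coe_mapSurjective, Subgroup.map_map, Subgroup.map_map]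
      rfl
    rw [h1, Subgroup.comap_map_eq, QuotientGroup.ker_mk']
  have hRn : R.Normal := by
    rw [hR]
    exact Subgroup.Normal.comap inferInstance f
  have hRN : R ≤ N := sup_le (Subgroup.map_subtype_le _) hle
  let PR : Sylow p R := (P.isPGroup'.map N.subtype |>.comap_of_injective R.subtype R.subtype_injective
      : IsPGroup p (((P : Subgroup N).map N.subtype).subgroupOf R)).toSylow (by
    intro h
    have h1 : (((P : Subgroup N).map N.subtype).subgroupOf R).index ∣ (P : Subgroup N).index := by
      have h2 := Subgroup.relIndex_dvd_of_le_left (K := (P : Subgroup N).map N.subtype) (H := R)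
      change ((P : Subgroup N).map N.subtype).relIndex R ∣ (P : Subgroup N).index
      have h3 := Subgroup.relIndex_mul_relIndex ((P : Subgroup N).map N.subtype) R N le_sup_left hRN
      have h4 : ((P : Subgroup N).map N.subtype).relIndex N = (P : Subgroup N).index := by
        rw [Subgroup.relIndex, Subgroup.subgroupOf,
          Subgroup.comap_map_eq_self_of_injective N.subtype_injective]
      rw [← h4, ← h3]
      exact dvd_mul_right _ _
    exact P.not_dvd_index (h.trans h1))
  have hcoe : (PR : Subgroup R).map R.subtype = (P : Subgroup N).map N.subtype :=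
    Subgroup.map_subgroupOf_eq_of_le le_sup_left
  have hF := Sylow.normalizer_sup_eq_top PR
  rw [hcoe] at hF
  have h5 : Subgroup.normalizer (((P : Subgroup N).map N.subtype : Subgroup G) : Set G) ⊔
      frattini G = ⊤ := by
    refine top_le_iff.mp (hF ▸ ?_)
    refine sup_le le_sup_left (sup_le (le_trans Subgroup.le_normalizer le_sup_left) le_sup_right)
  exact (Subgroup.normalizer_eq_top_iff.mp (eq_top_of_sup_frattini h5)).of_map_subtype

/-- If `G ⧸ Φ(G)` is nilpotent, so is `G`. -/
theorem isNilpotent_of_frattini_quotient (h : Group.IsNilpotent (G ⧸ frattini G)) :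
    Group.IsNilpotent G :=
  Group.isNilpotent_top.mp (isNilpotent_of_map_frattini (N := ⊤) le_top inferInstance)

theorem frattini_le_fittingSubgroup : frattini G ≤ Cfsg.fittingSubgroup G :=
  le_fittingSubgroup frattini_nilpotent

theorem fittingSubgroup_quotient_frattini :
    Cfsg.fittingSubgroup (G ⧸ frattini G) =
      (Cfsg.fittingSubgroup G).map (QuotientGroup.mk' (frattini G)) := by
  refine le_antisymm ?_ (map_fittingSubgroup_le (QuotientGroup.mk'_surjective _))
  let f := QuotientGroup.mk' (frattini G)
  have hn := fittingSubgroup_normal (G := G ⧸ frattini G)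
  let N : Subgroup G := (Cfsg.fittingSubgroup (G ⧸ frattini G)).comap f
  have hle : frattini G ≤ N := by
    rw [← QuotientGroup.ker_mk' (frattini G)]
    exact Subgroup.ker_le_comap f _
  have hmap : N.map f = Cfsg.fittingSubgroup (G ⧸ frattini G) :=
    Subgroup.map_comap_eq_self_of_surjective (QuotientGroup.mk'_surjective _) _
  have hnil : Group.IsNilpotent N := isNilpotent_of_map_frattini hle (by
    rw [hmap]; exact fittingSubgroup_isNilpotent)
  rw [← hmap]
  exact Subgroup.map_mono (le_fittingSubgroup hnil)

/-- Every prime divisor of `|G|` divides `|G : Φ(G)|`. -/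
theorem dvd_index_frattini {p : ℕ} (hp : p.Prime) (hdvd : p ∣ Nat.card G) :
    p ∣ (frattini G).index := by
  by_contra h
  have := Fact.mk hp
  have hΦ := frattini_nilpotent (G := G)
  let P : Sylow p (frattini G) := Classical.arbitrary _
  have hPc : (P : Subgroup (frattini G)).Characteristic := P.characteristic_of_normal inferInstance
  let P₀ : Subgroup G := (P : Subgroup (frattini G)).map (frattini G).subtype
  have hP₀ : P₀.Normal := inferInstance
  have hidx : P₀.index = (P : Subgroup (frattini G)).index * (frattini G).index :=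
    Subgroup.index_map_subtype _
  have hpidx : ¬ p ∣ P₀.index := by
    rw [hidx]
    intro h'
    rcases hp.dvd_mul.mp h' with h' | h'
    · exact P.not_dvd_index h'
    · exact h h'
  obtain ⟨n, hn⟩ := IsPGroup.iff_card.mp (P.isPGroup'.map (frattini G).subtype)
  have hcop : (Nat.card P₀).Coprime P₀.index := by
    rw [hn]
    exact Nat.Coprime.pow_left n ((hp.coprime_iff_not_dvd).mpr hpidx)
  obtain ⟨H, hH⟩ := Subgroup.exists_right_complement'_of_coprime hcop
  have h1 : H ⊔ frattini G = ⊤ :=
    top_le_iff.mp (hH.symm.sup_eq_top.ge.trans (sup_le_sup_left (Subgroup.map_subtype_le _) H))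
  rw [eq_top_of_sup_frattini h1, Subgroup.isComplement'_top_right] at hH
  apply hpidx
  rw [hH, Subgroup.index_bot]
  exact hdvd

/-- An abelian minimal normal subgroup has a complement iff it is not inside `Φ(G)`. -/
theorem exists_complement_iff_not_le_frattini (N : Subgroup G) [N.Normal] [IsMulCommutative N]
    (hN : N ≠ ⊥) (hmin : ∀ M : Subgroup G, M.Normal → M ≤ N → M = ⊥ ∨ M = N) :
    (∃ H : Subgroup G, Subgroup.IsComplement' N H) ↔ ¬ N ≤ frattini G := by
  constructor
  · rintro ⟨H, hH⟩ hle
    have h1 : H ⊔ frattini G = ⊤ :=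
      top_le_iff.mp (hH.symm.sup_eq_top.ge.trans (sup_le_sup_left hle H))
    rw [eq_top_of_sup_frattini h1, Subgroup.isComplement'_top_right] at hH
    exact hN hH
  · intro hle
    obtain ⟨x, hxN, hx⟩ := SetLike.not_le_iff_exists.mp hle
    rw [mem_frattini_iff] at hx
    push Not at hx
    obtain ⟨M, hM, hxM⟩ := hx
    have hsup : M ⊔ N = ⊤ := hM.2 _ (lt_of_le_of_ne le_sup_left (fun h => by
      apply hxM
      rw [h]
      exact Subgroup.mem_sup_right hxN))
    have hn : (M ⊓ N).Normal := by
      rw [← Subgroup.normalizer_eq_top_iff, eq_top_iff, ← hsup, sup_le_iff]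
      constructor
      · intro m hm
        rw [mem_normalizer_iff_conj_smul, Subgroup.smul_inf, Subgroup.conj_smul_eq_self_of_mem hm,
          Subgroup.Normal.conj_smul_eq_self]
      · intro n hn
        rw [Subgroup.mem_normalizer_iff]
        intro y
        have key : ∀ z ∈ N, n * z * n⁻¹ = z := by
          intro z hz
          have := Subtype.ext_iff.mp (mul_comm' (⟨n, hn⟩ : N) ⟨z, hz⟩)
          simp only [Subgroup.coe_mul] at this
          rw [this, mul_inv_cancel_right]
        constructor
        · intro hy
          rw [key y hy.2]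
          exact hy
        · intro hy
          have hyN : y ∈ N := by
            have h2 := (inferInstance : N.Normal).conj_mem _ hy.2 n⁻¹
            simpa [mul_assoc] using h2
          rw [key y hyN] at hy
          exact hy
    have hdisj : Disjoint N M := by
      rw [disjoint_iff, inf_comm]
      rcases hmin _ hn inf_le_right with h | h
      · exact h
      · exfalso
        exact hxM ((h.ge hxN : x ∈ M ⊓ N).1)
    refine ⟨M, Subgroup.isComplement'_of_card_mul_and_disjoint ?_ hdisj⟩
    rw [mul_comm, ← card_sup_of_disjoint N M hdisj.symm, hsup, Subgroup.card_top]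

section PGroup

variable {p : ℕ} [hp : Fact p.Prime]

theorem normal_of_coatom (hG : IsPGroup p G) {M : Subgroup G} (hM : IsCoatom M) : M.Normal :=
  haveI := hG.isNilpotent
  Subgroup.NormalizerCondition.normal_of_coatom _ Group.normalizerCondition_of_isNilpotent hM

theorem index_coatom (hG : IsPGroup p G) {M : Subgroup G} (hM : IsCoatom M) : M.index = p := by
  have := normal_of_coatom hG hM
  obtain ⟨n, hn⟩ := hG.index M
  have h1 : p ∣ Nat.card (G ⧸ M) := by
    rw [← Subgroup.index_eq_card, hn]
    refine dvd_pow_self p ?_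
    intro h0
    rw [h0, pow_zero, Subgroup.index_eq_one] at hn
    exact hM.1 hn
  obtain ⟨x, hx⟩ := exists_prime_orderOf_dvd_card' p h1
  have h2 : (Subgroup.zpowers x).comap (QuotientGroup.mk' M) = ⊤ := by
    obtain ⟨y, rfl⟩ := QuotientGroup.mk'_surjective M x
    apply hM.2
    refine lt_of_le_of_ne ?_ ?_
    · conv_lhs => rw [← QuotientGroup.ker_mk' M]
      exact Subgroup.ker_le_comap _ _
    · intro h
      have hy : y ∈ M := by rw [h]; exact Subgroup.mem_zpowers _
      have : (QuotientGroup.mk' M) y = 1 := (QuotientGroup.eq_one_iff y).mpr hy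
      rw [this, orderOf_one] at hx
      exact hp.out.ne_one hx.symm
  have h3 : Subgroup.zpowers x = ⊤ := by
    rw [← Subgroup.map_comap_eq_self_of_surjective (QuotientGroup.mk'_surjective M)
      (Subgroup.zpowers x), h2, Subgroup.map_top_of_surjective _ (QuotientGroup.mk'_surjective M)]
  rw [Subgroup.index_eq_card, ← Subgroup.card_top (G := G ⧸ M), ← h3, Nat.card_zpowers, hx]

theorem commutator_le_frattini (hG : IsPGroup p G) : commutator G ≤ frattini G := by
  rw [commutator_def, Subgroup.commutator_le]
  intro x _ y _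
  rw [mem_frattini_iff]
  intro M hM
  have := normal_of_coatom hG hM
  have : IsCyclic (G ⧸ M) :=
    isCyclic_of_prime_card (p := p) (by rw [← Subgroup.index_eq_card, index_coatom hG hM])
  rw [← QuotientGroup.eq_one_iff (N := M)]
  have h := map_commutatorElement (QuotientGroup.mk' M) x y
  rw [QuotientGroup.mk'_apply] at h
  rw [h, commutatorElement_eq_one_iff_mul_comm]
  exact mul_comm' _ _

theorem pow_mem_frattini (hG : IsPGroup p G) (x : G) : x ^ p ∈ frattini G := by
  rw [mem_frattini_iff]
  intro M hM
  have := normal_of_coatom hG hM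
  rw [← QuotientGroup.eq_one_iff (N := M), QuotientGroup.mk_pow]
  have h1 := pow_card_eq_one' (x := (x : G ⧸ M))
  rwa [← Subgroup.index_eq_card, index_coatom hG hM] at h1

theorem frattini_le_of_elementary {N : Subgroup G} (hcomm : commutator G ≤ N)
    (hpow : ∀ x : G, x ^ p ∈ N) : frattini G ≤ N := by
  intro x hx
  by_contra hxN
  obtain ⟨M, ⟨hNM, hxM⟩, hmax⟩ := WellFounded.has_min
    (wellFounded_gt : WellFounded ((· > ·) : Subgroup G → Subgroup G → Prop))
    {M : Subgroup G | N ≤ M ∧ x ∉ M} ⟨N, le_rfl, hxN⟩
  have hbig : ∀ K : Subgroup G, M < K → x ∈ K := fun K hK => by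
    by_contra hxK
    exact hmax K ⟨hNM.trans hK.le, hxK⟩ hK
  have hMn : M.Normal := ⟨fun m hm g => by
    have h1 : ⁅g, m⁆ ∈ M := hNM (hcomm (Subgroup.commutator_mem_commutator
      (Subgroup.mem_top g) (Subgroup.mem_top m)))
    have h2 := M.mul_mem h1 hm
    rwa [commutatorElement_def, inv_mul_cancel_right] at h2⟩
  have htop : M ⊔ Subgroup.zpowers x = ⊤ := by
    rw [eq_top_iff]
    intro y _
    by_cases hyM : y ∈ M
    · exact Subgroup.mem_sup_left hyM
    have hlt : M < M ⊔ Subgroup.zpowers y :=
      lt_of_le_of_ne le_sup_left fun h => hyM (h ▸ Subgroup.mem_sup_right (Subgroup.mem_zpowers y))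
    have hx' : x ∈ ((M ⊔ Subgroup.zpowers y : Subgroup G) : Set G) := hbig _ hlt
    rw [Subgroup.normal_mul, Set.mem_mul] at hx'
    obtain ⟨m, hm, z, hz, hmz⟩ := hx'
    obtain ⟨k, rfl⟩ := Subgroup.mem_zpowers_iff.mp hz
    have hyp : y ^ (p : ℤ) ∈ M := by rw [zpow_natCast]; exact hNM (hpow y)
    have hk : ¬ (p : ℤ) ∣ k := by
      rintro ⟨j, rfl⟩
      apply hxM
      rw [← hmz, zpow_mul]
      exact M.mul_mem hm (M.zpow_mem hyp j)
    obtain ⟨a, b, hab⟩ :=
      ((Nat.prime_iff_prime_int.mp hp.out).irreducible.coprime_iff_not_dvd).mpr hk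
    have h1 : y = (y ^ (p : ℤ)) ^ a * (y ^ k) ^ b := by
      rw [← zpow_mul, ← zpow_mul, ← zpow_add, mul_comm (p : ℤ) a, mul_comm k b, hab, zpow_one]
    have h2 : y ^ k ∈ M ⊔ Subgroup.zpowers x := by
      have h3 : y ^ k = m⁻¹ * x := by rw [← hmz, inv_mul_cancel_left]
      rw [h3]
      exact Subgroup.mul_mem_sup (M.inv_mem hm) (Subgroup.mem_zpowers x)
    rw [h1]
    exact mul_mem (zpow_mem (Subgroup.mem_sup_left hyp) a) (zpow_mem h2 b)
  have hcoatom : IsCoatom M := by
    refine ⟨fun h => hxM (h ▸ Subgroup.mem_top x), fun K hK => ?_⟩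
    rw [eq_top_iff, ← htop]
    exact sup_le hK.le (Subgroup.zpowers_le.mpr (hbig K hK))
  exact hxM (mem_frattini_iff.mp hx M hcoatom)

omit [Finite G] in
/-- In an elementary abelian image, every finite set has an independent subset with the same
span. -/
theorem exists_subset_card_closure {V : Type*} [Group V] [Finite V] [IsMulCommutative V]
    (f : G →* V) (hexp : ∀ v : V, v ^ p = 1) (S : Finset G) :
    ∃ T : Finset G, T ⊆ S ∧ (Subgroup.closure (T : Set G)).map f =
      (Subgroup.closure (S : Set G)).map f ∧
      Nat.card ((Subgroup.closure (T : Set G)).map f) = p ^ T.card := by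
  classical
  induction S using Finset.induction_on with
  | empty =>
    refine ⟨∅, le_rfl, rfl, ?_⟩
    rw [Finset.coe_empty, Subgroup.closure_empty, Subgroup.map_bot, Subgroup.card_bot,
      Finset.card_empty, pow_zero]
  | insert a S ha ih =>
    obtain ⟨T, hTS, hmap, hcard⟩ := ih
    have hins : ∀ U : Finset G, (Subgroup.closure ((insert a U : Finset G) : Set G)).map f =
        Subgroup.zpowers (f a) ⊔ (Subgroup.closure (U : Set G)).map f := by
      intro U
      rw [Finset.coe_insert, Set.insert_eq, Subgroup.closure_union, Subgroup.map_sup,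
        ← Subgroup.zpowers_eq_closure, MonoidHom.map_zpowers]
    by_cases hfa : f a ∈ (Subgroup.closure (T : Set G)).map f
    · refine ⟨T, hTS.trans (Finset.subset_insert a S), ?_, hcard⟩
      rw [hins, ← hmap, eq_comm, sup_eq_right]
      exact Subgroup.zpowers_le.mpr hfa
    · refine ⟨insert a T, Finset.insert_subset_insert a hTS, by rw [hins, hins, hmap], ?_⟩
      have hane : f a ≠ 1 := fun h => hfa (h ▸ one_mem _)
      have hord : orderOf (f a) = p :=
        orderOf_eq_prime (hexp _) hane
      have hd : Disjoint (Subgroup.zpowers (f a)) ((Subgroup.closure (T : Set G)).map f) := by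
        rw [disjoint_iff]
        by_contra hne
        have hdvd : Nat.card (Subgroup.zpowers (f a) ⊓ (Subgroup.closure (T : Set G)).map f :
            Subgroup V) ∣ p := by
          conv_rhs => rw [← hord, ← Nat.card_zpowers]
          exact Subgroup.card_dvd_of_le inf_le_left
        rcases hp.out.eq_one_or_self_of_dvd _ hdvd with h | h
        · exact hne (Subgroup.card_eq_one.mp h)
        · have h1 : Subgroup.zpowers (f a) ⊓ (Subgroup.closure (T : Set G)).map f =
              Subgroup.zpowers (f a) :=
            Subgroup.eq_of_le_of_card_ge inf_le_left (by rw [h, Nat.card_zpowers, hord])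
          exact hfa ((inf_eq_left.mp h1) (Subgroup.mem_zpowers _))
      rw [hins, card_sup_of_disjoint _ _ hd, Nat.card_zpowers, hord, hcard,
        Finset.card_insert_of_notMem (fun h => hfa (Subgroup.mem_map_of_mem f
          (Subgroup.subset_closure h))), pow_succ']

theorem burnside_basis (hG : IsPGroup p G) (n : ℕ) (hn : (frattini G).index = p ^ n) :
    (∀ S : Finset G, Subgroup.closure (S : Set G) = ⊤ →
      ∃ T : Finset G, T ⊆ S ∧ T.card = n ∧ Subgroup.closure (T : Set G) = ⊤) ∧
    (∀ T : Finset G, Subgroup.closure (T : Set G) = ⊤ → n ≤ T.card) := by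
  let f := QuotientGroup.mk' (frattini G)
  have hsurj : Function.Surjective f := QuotientGroup.mk'_surjective _
  have : IsMulCommutative (G ⧸ frattini G) := ⟨⟨fun a b => by
    obtain ⟨x, rfl⟩ := hsurj a
    obtain ⟨y, rfl⟩ := hsurj b
    rw [← commutatorElement_eq_one_iff_mul_comm, ← map_commutatorElement]
    exact (QuotientGroup.eq_one_iff _).mpr (commutator_le_frattini hG
      (Subgroup.commutator_mem_commutator (Subgroup.mem_top x) (Subgroup.mem_top y)))⟩⟩
  have hexp : ∀ v : G ⧸ frattini G, v ^ p = 1 := by
    intro v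
    obtain ⟨x, rfl⟩ := hsurj v
    rw [← map_pow]
    exact (QuotientGroup.eq_one_iff _).mpr (pow_mem_frattini hG x)
  have key : ∀ S : Finset G, Subgroup.closure (S : Set G) = ⊤ →
      ∃ T : Finset G, T ⊆ S ∧ T.card = n ∧ Subgroup.closure (T : Set G) = ⊤ := by
    intro S hS
    obtain ⟨T, hTS, hmap, hcard⟩ := exists_subset_card_closure f hexp S
    rw [hS, Subgroup.map_top_of_surjective f hsurj] at hmap
    rw [hmap, Subgroup.card_top, ← Subgroup.index_eq_card, hn] at hcard
    refine ⟨T, hTS, (Nat.pow_right_injective hp.out.two_le hcard).symm, eq_top_of_sup_frattini ?_⟩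
    have h1 := congrArg (Subgroup.comap f) hmap
    rwa [Subgroup.comap_map_eq, QuotientGroup.ker_mk', Subgroup.comap_top] at h1
  refine ⟨key, fun T hT => ?_⟩
  obtain ⟨T', hsub, hc, -⟩ := key T hT
  exact hc ▸ Finset.card_le_card hsub

end PGroup

end CfsgLib.Solvable
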