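import Mathlib.GroupTheory.Nilpotent
import Mathlib.GroupTheory.IsSubnormal
import Cfsg.Agent.Solvable.Basic

/-!
# Elementary facts on finite nilpotent groups

* `inf_center_ne_bot`, `centralizer_eq_of_maximal_abelian_normal`,
* `isNilpotent_iff_forall_isSubnormal`, `nilpotencyClass_le_of_card`.
-/

set_option autoImplicit false

namespace CfsgLib.Solvable

open scoped Pointwise
open commutatorElement

variable {G : Type*} [Group G]

/-- A nontrivial normal subgroup of a nilpotent group meets the centre nontrivially. -/
theorem inf_center_ne_bot [Group.IsNilpotent G] {N : Subgroup G} [N.Normal] (hN : N ≠ ⊥) :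
    N ⊓ Subgroup.center G ≠ ⊥ := by
  intro h
  apply hN
  obtain ⟨n, hn⟩ := Group.IsNilpotent.nilpotent G
  suffices ∀ k, N ⊓ Subgroup.upperCentralSeries G k = ⊥ by
    have h1 := this n
    rwa [hn, inf_top_eq] at h1
  intro k
  induction k with
  | zero => rw [Subgroup.upperCentralSeries_zero, inf_bot_eq]
  | succ k ih =>
    rw [eq_bot_iff, ← h]
    intro x hx
    refine ⟨hx.1, Subgroup.mem_center_iff.mpr fun y => ?_⟩
    have h1 := (Subgroup.mem_upperCentralSeries_succ_iff.mp hx.2) y
    have h2 : ⁅x, y⁆ ∈ N := by
      rw [commutatorElement_def, mul_assoc, mul_assoc]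
      exact N.mul_mem hx.1 (by
        rw [← mul_assoc]; exact (inferInstance : N.Normal).conj_mem _ (N.inv_mem hx.1) y)
    have h3 : ⁅x, y⁆ ∈ N ⊓ Subgroup.upperCentralSeries G k := ⟨h2, by
      simpa [commutatorElement_def] using h1⟩
    rw [ih, Subgroup.mem_bot] at h3
    exact (commutatorElement_eq_one_iff_mul_comm.mp h3).symm

/-- A maximal abelian normal subgroup of a nilpotent group is its own centralizer. -/
theorem centralizer_eq_of_maximal_abelian_normal [Group.IsNilpotent G] {N : Subgroup G} [N.Normal]
    [IsMulCommutative N]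
    (hmax : ∀ M : Subgroup G, M.Normal → IsMulCommutative M → N ≤ M → M = N) :
    Subgroup.centralizer (N : Set G) = N := by
  have hNC : N ≤ Subgroup.centralizer (N : Set G) := by
    intro x hx
    rw [Subgroup.mem_centralizer_iff]
    intro y hy
    exact congrArg Subtype.val (mul_comm' (⟨y, hy⟩ : N) ⟨x, hx⟩)
  refine le_antisymm ?_ hNC
  by_contra hle
  have hCn : ((Subgroup.centralizer (N : Set G)).map (QuotientGroup.mk' N)).Normal :=
    Subgroup.Normal.map inferInstance _ (QuotientGroup.mk'_surjective N)
  have hne : (Subgroup.centralizer (N : Set G)).map (QuotientGroup.mk' N) ≠ ⊥ := by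
    rwa [Ne, Subgroup.map_eq_bot_iff, QuotientGroup.ker_mk']
  obtain ⟨z, hz, hz1⟩ : ∃ z ∈ (Subgroup.centralizer (N : Set G)).map (QuotientGroup.mk' N) ⊓
      Subgroup.center (G ⧸ N), z ≠ 1 := by
    by_contra! h
    exact inf_center_ne_bot hne ((Subgroup.eq_bot_iff_forall _).mpr h)
  obtain ⟨⟨x, hxC, rfl⟩, hzc⟩ := hz
  let M : Subgroup G := N ⊔ Subgroup.zpowers x
  have hMn : M.Normal := by
    have h1 : M = ((Subgroup.zpowers (QuotientGroup.mk' N x))).comap (QuotientGroup.mk' N) := by
      rw [← MonoidHom.map_zpowers, Subgroup.comap_map_eq, QuotientGroup.ker_mk', sup_comm]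
    have h2 : (Subgroup.zpowers (QuotientGroup.mk' N x)).Normal :=
      ⟨fun a ha g => by
        have : a ∈ Subgroup.center (G ⧸ N) := Subgroup.zpowers_le.mpr hzc ha
        rw [Subgroup.mem_center_iff.mp this g, mul_inv_cancel_right]
        exact ha⟩
    rw [h1]
    exact Subgroup.Normal.comap h2 _
  have hMc : IsMulCommutative M := by
    have h1 : M ≤ Subgroup.centralizer (M : Set G) := by
      refine sup_le ?_ ?_ <;> rw [Subgroup.le_centralizer_iff] <;> refine sup_le ?_ ?_
      · exact hNC
      · exact Subgroup.zpowers_le.mpr hxC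
      · rw [Subgroup.le_centralizer_iff]
        exact Subgroup.zpowers_le.mpr hxC
      · intro a ha
        rw [Subgroup.mem_centralizer_iff]
        intro b hb
        obtain ⟨i, rfl⟩ := Subgroup.mem_zpowers_iff.mp ha
        obtain ⟨j, rfl⟩ := Subgroup.mem_zpowers_iff.mp hb
        exact (Commute.zpow_zpow (Commute.refl x) j i).eq
    exact ⟨⟨fun a b => Subtype.ext (Subgroup.mem_centralizer_iff.mp (h1 b.2) a a.2)⟩⟩
  apply hz1
  rw [QuotientGroup.mk'_apply, QuotientGroup.eq_one_iff]
  rw [← hmax M hMn hMc le_sup_left]
  exact Subgroup.mem_sup_right (Subgroup.mem_zpowers x)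

/-- A finite group is nilpotent iff all its subgroups are subnormal. -/
theorem isNilpotent_iff_forall_isSubnormal [Finite G] :
    Group.IsNilpotent G ↔ ∀ H : Subgroup G, H.IsSubnormal := by
  constructor
  · intro _ H
    induction H using WellFoundedGT.induction with
    | ind H ih =>
      rcases eq_top_or_lt_top H with rfl | h
      · exact Subgroup.IsSubnormal.top
      · have h1 := Group.normalizerCondition_of_isNilpotent H h
        exact Subgroup.IsSubnormal.step H _ h1.le (ih _ h1)
          Subgroup.normal_in_normalizer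
  · intro h
    have key := (Group.isNilpotent_of_finite_tfae (G := G)).out 0 2
    rw [key]
    intro M hM
    rcases (h M).lt_normal with h1 | ⟨K, hK, hMK, hKtop⟩
    · exact absurd h1 hM.1
    · rcases eq_or_lt_of_le hMK with rfl | h2
      · exact hK
      · exact absurd (hM.2 K h2) hKtop.ne

/-- A group of order `p ^ m` has class at most `max 1 (m - 1)`. -/
theorem nilpotencyClass_le_of_card [Finite G] (p : ℕ) [hp : Fact p.Prime] (m : ℕ)
    (hG : Nat.card G = p ^ m) : Group.nilpotencyClass G ≤ max 1 (m - 1) := by
  induction m using Nat.strong_induction_on generalizing G with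
  | _ m ih =>
    have hnil : Group.IsNilpotent G := (IsPGroup.of_card hG).isNilpotent
    by_cases hm : m ≤ 2
    · have hc : IsMulCommutative G := by
        rcases (show m = 0 ∨ m = 1 ∨ m = 2 by omega) with rfl | rfl | rfl
        · rw [pow_zero] at hG
          have := (Nat.card_eq_one_iff_unique.mp hG).1
          exact ⟨⟨fun a b => Subsingleton.elim _ _⟩⟩
        · rw [pow_one] at hG
          have := isCyclic_of_prime_card (p := p) hG
          exact inferInstance
        · exact IsPGroup.isMulCommutative_of_card_eq_prime_sq hG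
      exact le_trans (Group.IsNilpotent.nilpotencyClass_le_one_iff.mpr hc) (le_max_left _ _)
    · have : Nontrivial G := by
        rw [← Finite.one_lt_card_iff_nontrivial, hG]
        exact Nat.one_lt_pow (by omega) hp.out.one_lt
      have hG' : IsPGroup p G := IsPGroup.of_card hG
      obtain ⟨k, hk⟩ := IsPGroup.iff_card.mp (hG'.to_subgroup (Subgroup.center G))
      have hk0 : 0 < k := by
        rcases k.eq_zero_or_pos with h | h
        · rw [h, pow_zero, Subgroup.card_eq_one] at hk
          exact absurd hk (Group.IsNilpotent.center_ne_bot G)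
        · exact h
      have hkm : k ≤ m := by
        rw [← Nat.pow_dvd_pow_iff_le_right hp.out.one_lt, ← hk, ← hG]
        exact Subgroup.card_subgroup_dvd_card _
      have hq : Nat.card (G ⧸ Subgroup.center G) = p ^ (m - k) := by
        have h1 := Subgroup.card_eq_card_quotient_mul_card_subgroup (Subgroup.center G)
        rw [hG, hk, ← Nat.sub_add_cancel hkm, pow_add] at h1
        exact (Nat.eq_of_mul_eq_mul_right (pow_pos hp.out.pos k) h1).symm
      rw [Group.nilpotencyClass_eq_quotient_center_plus_one]
      have h2 := ih (m - k) (by omega) hq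
      omega

end CfsgLib.Solvable
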