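import Mathlib.GroupTheory.GroupAction.Quotient
import Mathlib.GroupTheory.FixedPointFree
import Cfsg.Agent.FrobComp.Malnormal
import Cfsg.Agent.Solvable.Basic

/-!
# Elementary theory of Frobenius complements (no character theory)

* `ncard_kernel_eq`, `card_dvd_index_sub_one`, `index_mod_card`;
* `exists_conj_inf_ne_bot`, `exists_conj_le_of_card_le`;
* `kernel_eq_of_normal_complement`, `isFrobeniusComplement_iff_fpf`;
* the even-order case: `inv_mul_mem_kernel_of_involution`, `inverts_of_fpf_involution`.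
-/

set_option autoImplicit false

namespace CfsgLib.Solvable

open scoped Pointwise
open Cfsg

section Counting

/-- A group acting with one fixed point and freely on the other points has order dividing the
number of the other points. -/
theorem card_dvd_card_sub_one {M X : Type*} [Group M] [MulAction M X] [Finite X] (x₀ : X)
    (h0 : ∀ m : M, m • x₀ = x₀) (h : ∀ x, x ≠ x₀ → ∀ m : M, m • x = x → m = 1) :
    Nat.card M ∣ Nat.card X - 1 := by
  let s : SubMulAction M X :=
    { carrier := {x | x ≠ x₀}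
      smul_mem' := fun m x hx he => hx (by
        have h1 := congrArg (fun z => m⁻¹ • z) he
        simpa [h0] using h1) }
  have hfree : ∀ b : s, MulAction.stabilizer M b = ⊥ := by
    intro b
    rw [Subgroup.eq_bot_iff_forall]
    intro m hm
    exact h b.1 b.2 m (congrArg Subtype.val (MulAction.mem_stabilizer_iff.mp hm))
  have hcard : Nat.card s = Nat.card X - 1 := by
    have h1 : Nat.card s = Set.ncard ({x₀}ᶜ : Set X) := by
      rw [← Nat.card_coe_set_eq]
      rfl
    rw [h1, Set.ncard_compl, Set.ncard_singleton]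
  rw [← hcard, Nat.card_congr (MulAction.selfEquivOrbitsQuotientProd hfree), Nat.card_prod]
  exact dvd_mul_left _ _

variable {G : Type*} [Group G] [Finite G] {H : Subgroup G}

theorem one_lt_card_complement (hH : IsFrobeniusComplement H) : 1 < Nat.card H :=
  H.one_lt_card_iff_ne_bot.mpr hH.1

omit [Finite G] in
theorem conj_pair_injective (hH : IsFrobeniusComplement H) :
    Function.Injective
      (fun p : (G ⧸ H) × {h : H // h ≠ 1} => p.1.out * (p.2.1 : G) * p.1.out⁻¹) := by
  rintro ⟨a, h, hh⟩ ⟨b, k, hk⟩ he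
  simp only at he
  have hh' : (h : G) ≠ 1 := fun e => hh (Subtype.ext e)
  have hmem : (a.out⁻¹ * b.out)⁻¹ * (h : G) * (a.out⁻¹ * b.out) ∈ H := by
    have e1 : (a.out⁻¹ * b.out)⁻¹ * (h : G) * (a.out⁻¹ * b.out) = k := by
      calc _ = b.out⁻¹ * (a.out * h * a.out⁻¹) * b.out := by group
        _ = _ := by rw [he]; group
    rw [e1]
    exact k.2
  have hab : a = b := by
    rw [← QuotientGroup.out_eq' a, ← QuotientGroup.out_eq' b, QuotientGroup.eq]
    exact FrobComp.mem_of_conj_mem hH h.2 hh' hmem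
  subst hab
  have : (h : G) = k := mul_left_cancel (mul_right_cancel he)
  simp only [Prod.mk.injEq, true_and, Subtype.mk.injEq]
  exact Subtype.ext this

omit [Finite G] in
theorem conj_pair_range (H : Subgroup G) :
    Set.range (fun p : (G ⧸ H) × {h : H // h ≠ 1} => p.1.out * (p.2.1 : G) * p.1.out⁻¹) =
      (frobeniusKernel H)ᶜ := by
  ext x
  constructor
  · rintro ⟨⟨a, h, hh⟩, rfl⟩ hx
    rcases (FrobComp.mem_kernel_iff H _).mp hx with h1 | h1
    · apply hh
      refine Subtype.ext ?_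
      simpa using h1
    · apply h1 a.out
      simp only
      have : a.out⁻¹ * (a.out * (h : G) * a.out⁻¹) * a.out = h := by group
      rw [this]
      exact h.2
  · intro hx
    obtain ⟨-, g, h, hh, h1, rfl⟩ := FrobComp.exists_conj_of_notMem_kernel hx
    obtain ⟨a, ha⟩ := QuotientGroup.mk_out_eq_mul H g
    have hm : (a : G)⁻¹ * h * a ∈ H := H.mul_mem (H.mul_mem (H.inv_mem a.2) hh) a.2
    refine ⟨(QuotientGroup.mk g, ⟨⟨_, hm⟩, fun h' => h1 ?_⟩), ?_⟩
    · have h'' : (a : G)⁻¹ * h * a = 1 := congrArg Subtype.val h'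
      calc h = (a : G) * ((a : G)⁻¹ * h * a) * (a : G)⁻¹ := by group
        _ = 1 := by rw [h'']; group
    · simp only [ha]
      group

theorem ncard_kernel_compl (hH : IsFrobeniusComplement H) :
    (frobeniusKernel H)ᶜ.ncard = H.index * (Nat.card H - 1) := by
  rw [← conj_pair_range, Set.ncard_range_of_injective (conj_pair_injective hH), Nat.card_prod,
    Subgroup.index_eq_card]
  congr 1
  have h1 : Nat.card {h : H // h ≠ 1} = Set.ncard ({(1 : H)}ᶜ : Set H) := by
    rw [← Nat.card_coe_set_eq]; rfl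
  rw [h1, Set.ncard_compl, Set.ncard_singleton]

theorem index_mul_pred_add (H : Subgroup G) :
    H.index * (Nat.card H - 1) + H.index = Nat.card G := by
  rw [← Nat.mul_succ, Nat.succ_eq_add_one, Nat.sub_add_cancel Nat.card_pos, Subgroup.index_mul_card]

theorem ncard_kernel_eq (hH : IsFrobeniusComplement H) :
    (frobeniusKernel H).ncard = H.index := by
  have h2 : (frobeniusKernel H).ncard + (frobeniusKernel H)ᶜ.ncard = Nat.card G :=
    Set.ncard_add_ncard_compl _
  rw [ncard_kernel_compl hH, ← index_mul_pred_add H] at h2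
  omega

theorem card_dvd_index_sub_one (hH : IsFrobeniusComplement H) :
    Nat.card H ∣ H.index - 1 := by
  refine card_dvd_card_sub_one (M := H) (X := G ⧸ H) (QuotientGroup.mk 1) (fun m => ?_)
    (fun x hx m hm => ?_)
  · change (QuotientGroup.mk ((m : G) * 1) : G ⧸ H) = QuotientGroup.mk 1
    rw [QuotientGroup.eq]
    simp
  · induction x using QuotientGroup.induction_on with
    | H g =>
      change (QuotientGroup.mk ((m : G) * g) : G ⧸ H) = QuotientGroup.mk g at hm
      rw [QuotientGroup.eq] at hm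
      by_contra hm1
      apply hx
      rw [QuotientGroup.eq, mul_one]
      refine H.inv_mem (FrobComp.mem_of_conj_mem hH m.2 (fun e => hm1 (Subtype.ext e)) ?_)
      have h1 := H.inv_mem hm
      simpa [mul_assoc] using h1

theorem index_mod_card (hH : IsFrobeniusComplement H) :
    H.index % Nat.card H = 1 % Nat.card H := by
  obtain ⟨c, hc⟩ := card_dvd_index_sub_one hH
  have hi : 1 ≤ H.index := Nat.pos_of_ne_zero Subgroup.index_ne_zero_of_finite
  have h1 : H.index = 1 + Nat.card H * c := by omega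
  rw [h1, Nat.add_mul_mod_self_left]

omit [Finite G] in
theorem isFrobeniusComplement_conj (hH : IsFrobeniusComplement H) (g : G) :
    IsFrobeniusComplement (MulAut.conj g • H : Subgroup G) := by
  refine ⟨fun h => hH.1 ?_, fun h => hH.2.1 ?_, fun x hx => ?_⟩
  · rw [← inv_smul_smul (MulAut.conj g) H, h, Subgroup.smul_bot]
  · rw [eq_top_iff]
    intro y _
    have h1 : g * y * g⁻¹ ∈ MulAut.conj g • H := h ▸ Subgroup.mem_top _
    rw [mem_conj_smul] at h1
    simpa [mul_assoc] using h1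
  · have hx' : g⁻¹ * x * g ∉ H := fun h => hx (by rwa [mem_conj_smul])
    have h1 := congrArg (fun K => MulAut.conj g • K) (hH.2.2 _ hx')
    simp only [Subgroup.smul_inf, Subgroup.smul_bot, ← mul_smul, ← map_mul] at h1
    rw [← mul_smul, ← map_mul]
    rwa [show g * (g⁻¹ * x * g) = x * g by group] at h1

/-- Two Frobenius complements have conjugates that meet nontrivially. -/
theorem exists_conj_inf_ne_bot {H₀ : Subgroup G} (hH : IsFrobeniusComplement H)
    (hH₀ : IsFrobeniusComplement H₀) : ∃ g : G, H₀ ⊓ MulAut.conj g • H ≠ ⊥ := by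
  by_contra! hall
  have hd : Disjoint (frobeniusKernel H₀)ᶜ (frobeniusKernel H)ᶜ := by
    rw [Set.disjoint_left]
    intro x hx hx'
    obtain ⟨hx1, g, h, hh, -, he⟩ := FrobComp.exists_conj_of_notMem_kernel hx
    obtain ⟨-, g', h', hh', -, he'⟩ := FrobComp.exists_conj_of_notMem_kernel hx'
    have h1 : g⁻¹ * x * g ∈ H₀ ⊓ MulAut.conj (g⁻¹ * g') • H := by
      refine ⟨?_, ?_⟩
      · rw [he]
        have : g⁻¹ * (g * h * g⁻¹) * g = h := by group
        rw [this]
        exact hh
      · refine mem_conj_smul.mpr ?_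
        rw [he']
        have : (g⁻¹ * g')⁻¹ * (g⁻¹ * (g' * h' * g'⁻¹) * g) * (g⁻¹ * g') = h' := by group
        rw [this]
        exact hh'
    rw [hall, Subgroup.mem_bot] at h1
    exact hx1 (by calc x = g * (g⁻¹ * x * g) * g⁻¹ := by group
                    _ = 1 := by rw [h1]; group)
  have hsub : (frobeniusKernel H₀)ᶜ ∪ (frobeniusKernel H)ᶜ ⊆ ({1}ᶜ : Set G) := by
    rintro x (hx | hx) (h1 : x = 1) <;> exact hx (Or.inl h1)
  have hle := Set.ncard_le_ncard hsub (Set.toFinite _)
  rw [Set.ncard_union_eq hd, ncard_kernel_compl hH₀, ncard_kernel_compl hH, Set.ncard_compl,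
    Set.ncard_singleton] at hle
  have h1 := index_mul_pred_add H
  have h2 := index_mul_pred_add H₀
  have h3 : H.index ≤ H.index * (Nat.card H - 1) :=
    Nat.le_mul_of_pos_right _ (by have := one_lt_card_complement hH; omega)
  have h4 : H₀.index ≤ H₀.index * (Nat.card H₀ - 1) :=
    Nat.le_mul_of_pos_right _ (by have := one_lt_card_complement hH₀; omega)
  have h5 : 0 < Nat.card G := Nat.card_pos
  omega

omit [Finite G] in
/-- The trace of a Frobenius complement on a subgroup is a Frobenius complement of it. -/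
theorem isFrobeniusComplement_subgroupOf {L : Subgroup G} (hH : IsFrobeniusComplement H)
    (hne : L ⊓ H ≠ ⊥) (hle : ¬ L ≤ H) : IsFrobeniusComplement (H.subgroupOf L) := by
  refine ⟨fun h => hne ?_, fun h => hle (Subgroup.subgroupOf_eq_top.mp h), fun x hx => ?_⟩
  · rwa [Subgroup.subgroupOf_eq_bot, disjoint_iff, inf_comm] at h
  · rw [Subgroup.eq_bot_iff_forall]
    rintro y ⟨hy1, hy2⟩
    have hy2' : x⁻¹ * y * x ∈ H.subgroupOf L := mem_conj_smul.mp hy2
    have h1 : (y : G) ∈ H ⊓ MulAut.conj (x : G) • H :=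
      ⟨hy1, mem_conj_smul.mpr hy2'⟩
    rw [hH.2.2 x hx, Subgroup.mem_bot] at h1
    exact Subtype.ext h1

/-- A Frobenius complement of order at most `|H|` lies in a conjugate of `H`. -/
theorem exists_conj_le_of_card_le {H₀ : Subgroup G} (hH : IsFrobeniusComplement H)
    (hH₀ : IsFrobeniusComplement H₀) (hle : Nat.card H₀ ≤ Nat.card H) :
    ∃ g : G, H₀ ≤ MulAut.conj g • H := by
  by_contra! hnot
  obtain ⟨g₁, hg₁⟩ := exists_conj_inf_ne_bot hH hH₀
  let H₁ : Subgroup G := MulAut.conj g₁ • H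
  have hH₁ : IsFrobeniusComplement H₁ := isFrobeniusComplement_conj hH g₁
  let D : Subgroup H₀ := H₁.subgroupOf H₀
  have hD : IsFrobeniusComplement D := isFrobeniusComplement_subgroupOf hH₁ hg₁ (hnot g₁)
  -- the kernel of `D` in `H₀` lies in the kernel of `H₁`
  have hker : ∀ x : H₀, x ∈ frobeniusKernel D → (x : G) ∈ frobeniusKernel H₁ := by
    intro x hx
    by_contra hxk
    obtain ⟨hx1, y, h, hh, -, he⟩ := FrobComp.exists_conj_of_notMem_kernel hxk
    have hy : (x : G) ∈ MulAut.conj y • H₁ := by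
      rw [mem_conj_smul, he]
      have : y⁻¹ * (y * h * y⁻¹) * y = h := by group
      rw [this]
      exact hh
    have hne : H₀ ⊓ MulAut.conj y • H₁ ≠ ⊥ := by
      intro h'
      exact hx1 ((Subgroup.eq_bot_iff_forall _).mp h' _ ⟨x.2, hy⟩)
    have hH₂ := isFrobeniusComplement_conj hH₁ y
    have hnle : ¬ H₀ ≤ MulAut.conj y • H₁ := by
      rw [← mul_smul, ← map_mul]
      exact hnot _
    have hD' := isFrobeniusComplement_subgroupOf hH₂ hne hnle
    obtain ⟨z, hz⟩ := exists_conj_inf_ne_bot hD hD'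
    obtain ⟨⟨w, hw2, hw3⟩, hw1⟩ := Subgroup.ne_bot_iff_exists_ne_one.mp hz
    have hw2' : (w : G) ∈ MulAut.conj y • H₁ := hw2
    have hw3a : z⁻¹ * w * z ∈ D := mem_conj_smul.mp hw3
    have hw3' : (w : G) ∈ MulAut.conj (z : G) • H₁ := mem_conj_smul.mpr hw3a
    have hyz : y⁻¹ * z ∈ H₁ := by
      refine FrobComp.mem_of_conj_mem hH₁ (h := y⁻¹ * w * y) (mem_conj_smul.mp hw2')
        (fun e => hw1 (Subtype.ext (Subtype.ext (by
          calc (w : G) = y * (y⁻¹ * w * y) * y⁻¹ := by group
            _ = 1 := by rw [e]; group)))) ?_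
      have : (y⁻¹ * (z : G))⁻¹ * (y⁻¹ * w * y) * (y⁻¹ * z) = (z : G)⁻¹ * w * z := by group
      rw [this]
      exact mem_conj_smul.mp hw3'
    rcases (FrobComp.mem_kernel_iff D x).mp hx with h1 | h1
    · exact hx1 (congrArg Subtype.val h1)
    · apply h1 z
      change ((z : G))⁻¹ * x * z ∈ H₁
      have h2 : (z : G)⁻¹ * x * z = (y⁻¹ * z)⁻¹ * (y⁻¹ * x * y) * (y⁻¹ * z) := by group
      rw [h2]
      exact H₁.mul_mem (H₁.mul_mem (H₁.inv_mem hyz) (mem_conj_smul.mp hy)) hyz
  -- count
  let T : Set H₀ := frobeniusKernel D \ {1}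
  let f : (G ⧸ H₀) × T → G := fun p => p.1.out * ((p.2 : H₀) : G) * p.1.out⁻¹
  have hf : Function.Injective f := by
    rintro ⟨a, h, hh⟩ ⟨b, k, hk⟩ he
    have hinj := @conj_pair_injective G _ H₀ hH₀ (a, ⟨h, hh.2⟩) (b, ⟨k, hk.2⟩) he
    obtain ⟨h1, h2⟩ := Prod.mk.inj hinj
    have h3 : h = k := Subtype.ext_iff.mp h2
    subst h1 h3
    rfl
  have hsub : Set.range f ⊆ frobeniusKernel H₁ \ {1} := by
    rintro _ ⟨⟨a, h, hh⟩, rfl⟩
    refine ⟨FrobComp.kernel_conj_mem (hker h hh.1) _, ?_⟩
    intro (e : a.out * (h : G) * a.out⁻¹ = 1)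
    apply hh.2
    apply Subtype.ext
    calc (h : G) = a.out⁻¹ * (a.out * h * a.out⁻¹) * a.out := by group
      _ = 1 := by rw [e]; group
  have hcnt := Set.ncard_le_ncard hsub (Set.toFinite _)
  rw [Set.ncard_range_of_injective hf, Nat.card_prod, ← Subgroup.index_eq_card,
    Nat.card_coe_set_eq, Set.ncard_sdiff_singleton_of_mem (show (1 : H₀) ∈ frobeniusKernel D from
      Or.inl rfl), Set.ncard_sdiff_singleton_of_mem (show (1 : G) ∈ frobeniusKernel H₁ from
      Or.inl rfl), ncard_kernel_eq hD, ncard_kernel_eq hH₁, index_conj_smul] at hcnt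
  have h1 : 1 < D.index := Subgroup.one_lt_index_of_ne_top hD.2.1
  have h2 : H.index ≤ H₀.index := by
    have e1 := H.index_mul_card
    rw [← H₀.index_mul_card] at e1
    refine Nat.le_of_mul_le_mul_right ?_ (Nat.card_pos (α := H))
    rw [e1]
    exact Nat.mul_le_mul_left _ hle
  have h3 : H₀.index ≤ H₀.index * (D.index - 1) := Nat.le_mul_of_pos_right _ (by omega)
  have h4 : 0 < H.index := Nat.pos_of_ne_zero Subgroup.index_ne_zero_of_finite
  omega

end Counting

section Complement

variable {G : Type*} [Group G] {K H : Subgroup G} [K.Normal]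

omit [K.Normal] in
theorem eq_one_of_commute_of_fpf (hfpf : ∀ h ∈ H, h ≠ 1 → K ⊓ Subgroup.centralizer {h} = ⊥)
    {h k : G} (hh : h ∈ H) (h1 : h ≠ 1) (hk : k ∈ K) (hc : h * k = k * h) : k = 1 := by
  have : k ∈ K ⊓ Subgroup.centralizer {h} :=
    ⟨hk, Subgroup.mem_centralizer_iff.mpr fun x hx => by rw [Set.mem_singleton_iff.mp hx]; exact hc⟩
  rwa [hfpf h hh h1, Subgroup.mem_bot] at this

/-- A complement is a Frobenius complement iff it acts without fixed points. -/
theorem isFrobeniusComplement_iff_fpf (hc : Subgroup.IsComplement' K H) (hK : K ≠ ⊥)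
    (hH : H ≠ ⊥) :
    IsFrobeniusComplement H ↔ ∀ h ∈ H, h ≠ 1 → K ⊓ Subgroup.centralizer {h} = ⊥ := by
  constructor
  · intro hF h hh h1
    rw [Subgroup.eq_bot_iff_forall]
    rintro k ⟨hk, hkc⟩
    have hkH : k ∈ H := FrobComp.centralizer_le hF hh h1 hkc
    exact Subgroup.mem_bot.mp (hc.disjoint.le_bot ⟨hk, hkH⟩)
  · intro hfpf
    refine ⟨hH, fun h => hK ?_, fun g hg => ?_⟩
    · subst h
      exact Subgroup.isComplement'_top_right.mp hc
    · rw [Subgroup.eq_bot_iff_forall]
      rintro x ⟨hx, hxg⟩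
      have hxg' : g⁻¹ * x * g ∈ H := mem_conj_smul.mp hxg
      obtain ⟨⟨⟨k, hk⟩, ⟨h, hh⟩⟩, hkh⟩ := hc.2 g
      simp only at hkh
      subst hkh
      by_contra hx1
      have hk1 : k ≠ 1 := fun e => hg (by rw [e, one_mul]; exact hh)
      have hxk : k⁻¹ * x * k ∈ H := by
        have h2 := H.mul_mem (H.mul_mem hh hxg') (H.inv_mem hh)
        simpa [mul_assoc] using h2
      have hKH : x⁻¹ * (k⁻¹ * x * k) ∈ K ⊓ H := by
        refine ⟨?_, H.mul_mem (H.inv_mem hx) hxk⟩
        have h3 := K.mul_mem ((inferInstance : K.Normal).conj_mem _ (K.inv_mem hk) x⁻¹) hk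
        simpa [mul_assoc] using h3
      rw [hc.disjoint.eq_bot, Subgroup.mem_bot, inv_mul_eq_one] at hKH
      apply hk1
      refine eq_one_of_commute_of_fpf hfpf hx hx1 hk ?_
      calc x * k = k * (k⁻¹ * x * k) := by group
        _ = k * x := by rw [← hKH]

variable [Finite G]

/-- A normal complement of a Frobenius complement is its Frobenius kernel. -/
theorem kernel_eq_of_normal_complement (hc : Subgroup.IsComplement' K H)
    (hH : IsFrobeniusComplement H) : (K : Set G) = frobeniusKernel H := by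
  refine Set.eq_of_subset_of_ncard_le (fun x hx => ?_) ?_ (Set.toFinite _)
  · by_contra hxk
    obtain ⟨hx1, g, h, hh, -, he⟩ := FrobComp.exists_conj_of_notMem_kernel hxk
    apply hx1
    have h1 : g⁻¹ * x * g ∈ K ⊓ H := by
      constructor
      · simpa using (inferInstance : K.Normal).conj_mem x hx g⁻¹
      · rw [he]
        have : g⁻¹ * (g * h * g⁻¹) * g = h := by group
        rw [this]
        exact hh
    rw [hc.disjoint.eq_bot, Subgroup.mem_bot] at h1
    calc x = g * (g⁻¹ * x * g) * g⁻¹ := by group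
      _ = 1 := by rw [h1]; group
  · rw [ncard_kernel_eq hH, hc.index_eq_card]
    exact le_of_eq (Nat.card_coe_set_eq _).symm

/-- A fixed-point-free involution inverts the normal subgroup, which is then abelian. -/
theorem inverts_of_fpf_involution (hfpf : ∀ h ∈ H, h ≠ 1 → K ⊓ Subgroup.centralizer {h} = ⊥)
    {s : G} (hs : s ∈ H) (hs1 : s ≠ 1) (hs2 : s * s = 1) :
    (∀ k ∈ K, s * k * s⁻¹ = k⁻¹) ∧ IsMulCommutative K := by
  let φ : K ≃* K := MulAut.conjNormal s
  have hfix : MonoidHom.FixedPointFree (φ : K →* K) := by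
    intro k hk
    apply Subtype.ext
    refine eq_one_of_commute_of_fpf hfpf hs hs1 k.2 ?_
    have h1 : s * (k : G) * s⁻¹ = k := congrArg Subtype.val hk
    exact mul_inv_eq_iff_eq_mul.mp h1
  have hinv : Function.Involutive (φ : K →* K) := by
    intro k
    apply Subtype.ext
    change s * (s * (k : G) * s⁻¹) * s⁻¹ = k
    rw [inv_eq_of_mul_eq_one_right hs2, ← mul_assoc, ← mul_assoc, hs2, one_mul, mul_assoc, hs2,
      mul_one]
  refine ⟨fun k hk => ?_, ⟨⟨fun a b => hfix.commute_all_of_involutive hinv a b⟩⟩⟩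
  exact congrArg Subtype.val (congrFun (hfix.coe_eq_inv_of_involutive hinv) ⟨k, hk⟩)

end Complement

section Even

variable {G : Type*} [Group G] [Finite G] {H : Subgroup G}

omit [Finite G] in
/-- Products of conjugates of an involution of `H` from distinct conjugates of `H` lie in the
kernel. -/
theorem conj_mul_conj_mem_kernel (hH : IsFrobeniusComplement H) {t : G} (ht : t ∈ H)
    (ht1 : t ≠ 1) (ht2 : t * t = 1) {a b : G} (hab : a⁻¹ * b ∉ H) :
    a * t * a⁻¹ * (b * t * b⁻¹) ∈ frobeniusKernel H := by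
  by_contra hk
  obtain ⟨-, g, h, hh, h1, he⟩ := FrobComp.exists_conj_of_notMem_kernel hk
  have htinv : t⁻¹ = t := inv_eq_of_mul_eq_one_right ht2
  have hinv : ∀ c : G, (c * t * c⁻¹) * (g * h * g⁻¹) * (c * t * c⁻¹)⁻¹ = (g * h * g⁻¹)⁻¹ →
      g⁻¹ * c ∈ H := by
    intro c hc
    have hu : g⁻¹ * (c * t * c⁻¹) * g ∈ H := by
      refine FrobComp.mem_of_conj_mem hH (h := h⁻¹) (H.inv_mem hh) (by simpa using h1) ?_
      have h2 : (g⁻¹ * (c * t * c⁻¹) * g)⁻¹ * h⁻¹ * (g⁻¹ * (c * t * c⁻¹) * g) =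
          g⁻¹ * ((c * t * c⁻¹)⁻¹ * (g * h * g⁻¹)⁻¹ * (c * t * c⁻¹)) * g := by group
      rw [h2, ← hc]
      have h3 : g⁻¹ * ((c * t * c⁻¹)⁻¹ * ((c * t * c⁻¹) * (g * h * g⁻¹) * (c * t * c⁻¹)⁻¹) *
          (c * t * c⁻¹)) * g = h := by group
      rw [h3]
      exact hh
    have h4 : c⁻¹ * g ∈ H := by
      refine FrobComp.mem_of_conj_mem hH ht ht1 ?_
      have h5 : (c⁻¹ * g)⁻¹ * t * (c⁻¹ * g) = g⁻¹ * (c * t * c⁻¹) * g := by group
      rw [h5]
      exact hu
    simpa using H.inv_mem h4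
  have hcinv : ∀ c : G, (c * t * c⁻¹)⁻¹ = c * t * c⁻¹ := fun c => by
    rw [mul_inv_rev, mul_inv_rev, inv_inv, htinv, mul_assoc]
  have hsq : ∀ c : G, c * t * c⁻¹ * (c * t * c⁻¹) = 1 := fun c => by
    calc c * t * c⁻¹ * (c * t * c⁻¹) = c * (t * t) * c⁻¹ := by group
      _ = 1 := by rw [ht2]; group
  have hga := hinv a (by
    rw [← he, mul_inv_rev (a * t * a⁻¹), hcinv, hcinv, ← mul_assoc (a * t * a⁻¹) (a * t * a⁻¹), hsq, one_mul])
  have hgb := hinv b (by
    rw [← he, mul_inv_rev (a * t * a⁻¹), hcinv, hcinv]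
    rw [mul_assoc, mul_assoc (a * t * a⁻¹), hsq, mul_one])
  apply hab
  have h6 := H.mul_mem (H.inv_mem hga) hgb
  simpa [mul_assoc] using h6

/-- Every element of the kernel is the product of `t` with a conjugate of `t`. -/
theorem exists_eq_involution_mul (hH : IsFrobeniusComplement H) {t : G} (ht : t ∈ H)
    (ht1 : t ≠ 1) (ht2 : t * t = 1) {k : G} (hk : k ∈ frobeniusKernel H) :
    ∃ a : G, k = t * (a * t * a⁻¹) := by
  classical
  let f : G ⧸ H → G := fun x => if x = QuotientGroup.mk 1 then 1 else t * (x.out * t * x.out⁻¹)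
  have hne : ∀ x : G ⧸ H, x ≠ QuotientGroup.mk 1 → x.out ∉ H := by
    intro x hx hxo
    apply hx
    rw [← QuotientGroup.out_eq' x, QuotientGroup.eq, mul_one]
    exact H.inv_mem hxo
  have hmem : ∀ x, f x ∈ frobeniusKernel H := by
    intro x
    simp only [f]
    split_ifs with h
    · exact Or.inl rfl
    · have := conj_mul_conj_mem_kernel hH ht ht1 ht2 (a := 1) (b := x.out)
        (by simpa using hne x h)
      simpa using this
  have hpair : ∀ x y : G ⧸ H, x.out * t * x.out⁻¹ = y.out * t * y.out⁻¹ → x = y := by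
    intro x y hxy
    rw [← QuotientGroup.out_eq' x, ← QuotientGroup.out_eq' y, QuotientGroup.eq]
    refine FrobComp.mem_of_conj_mem hH ht ht1 ?_
    have e : (x.out⁻¹ * y.out)⁻¹ * t * (x.out⁻¹ * y.out) = t :=
      calc _ = y.out⁻¹ * (x.out * t * x.out⁻¹) * y.out := by group
        _ = y.out⁻¹ * (y.out * t * y.out⁻¹) * y.out := by rw [hxy]
        _ = t := by group
    rw [e]
    exact ht
  have hone : ∀ x : G ⧸ H, x ≠ QuotientGroup.mk 1 → t * (x.out * t * x.out⁻¹) ≠ 1 := by
    intro x hx he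
    apply hne x hx
    refine FrobComp.mem_of_conj_mem hH ht ht1 ?_
    have h1 : x.out * t * x.out⁻¹ = t := mul_left_cancel (he.trans ht2.symm)
    have e : x.out⁻¹ * t * x.out = t :=
      calc _ = x.out⁻¹ * (x.out * t * x.out⁻¹) * x.out := by rw [h1]
        _ = t := by group
    rw [e]
    exact ht
  have hinj : Function.Injective f := by
    intro x y hxy
    simp only [f] at hxy
    split_ifs at hxy with hx hy
    · rw [hx, hy]
    · exact absurd hxy.symm (hone y hy)
    · rename_i hy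
      exact absurd hxy (hone x hx)
    · exact hpair x y (mul_left_cancel hxy)
  have heq : Set.range f = frobeniusKernel H :=
    Set.eq_of_subset_of_ncard_le (Set.range_subset_iff.mpr hmem)
      (by rw [Set.ncard_range_of_injective hinj, ncard_kernel_eq hH, Subgroup.index_eq_card])
      (Set.toFinite _)
  rw [← heq] at hk
  obtain ⟨x, rfl⟩ := hk
  simp only [f]
  split_ifs with h
  · exact ⟨1, by simp [ht2]⟩
  · exact ⟨_, rfl⟩

theorem involution_inverts_kernel (hH : IsFrobeniusComplement H) {t : G} (ht : t ∈ H)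
    (ht1 : t ≠ 1) (ht2 : t * t = 1) {k : G} (hk : k ∈ frobeniusKernel H) : t * k * t = k⁻¹ := by
  obtain ⟨a, rfl⟩ := exists_eq_involution_mul hH ht ht1 ht2 hk
  rw [mul_inv_rev, mul_inv_rev, mul_inv_rev, inv_inv, inv_eq_of_mul_eq_one_right ht2, ← mul_assoc,
    ht2, one_mul]
  simp [mul_assoc]

/-- A Frobenius complement has at most one involution. -/
theorem involution_unique (hH : IsFrobeniusComplement H) {t u : G} (ht : t ∈ H) (ht1 : t ≠ 1)
    (ht2 : t * t = 1) (hu : u ∈ H) (hu1 : u ≠ 1) (hu2 : u * u = 1) : u = t := by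
  obtain ⟨k, hk, hk1⟩ : ∃ k ∈ frobeniusKernel H, k ≠ 1 := by
    by_contra! h
    have h1 : (frobeniusKernel H).ncard ≤ 1 :=
      (Set.ncard_le_one (Set.toFinite _)).mpr fun a ha b hb => (h a ha).trans (h b hb).symm
    rw [ncard_kernel_eq hH] at h1
    exact absurd (Subgroup.one_lt_index_of_ne_top hH.2.1) (not_lt.mpr h1)
  by_contra hne
  have htinv : t⁻¹ = t := inv_eq_of_mul_eq_one_right ht2
  have hut : u * t ∈ H := H.mul_mem hu ht
  have hut1 : u * t ≠ 1 := fun h => hne (by rw [mul_eq_one_iff_eq_inv, htinv] at h; exact h)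
  apply hk1
  refine FrobComp.eq_one_of_commute hH hk
    (fun h => hut1 (FrobComp.eq_one_of_mem_kernel_of_mem h hut)) ?_
  have e1 := involution_inverts_kernel hH ht ht1 ht2 hk
  have e2 := involution_inverts_kernel hH hu hu1 hu2 hk
  change k * (u * t) = u * t * k
  calc k * (u * t) = (u * u) * k * u * t := by rw [hu2, one_mul, mul_assoc]
    _ = u * (u * k * u) * t := by group
    _ = u * (t * k * t) * t := by rw [e1, e2]
    _ = u * t * k * (t * t) := by group
    _ = u * t * k := by rw [ht2, mul_one]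

theorem conj_mul_conj_mem_kernel' (hH : IsFrobeniusComplement H) {t : G} (ht : t ∈ H)
    (ht1 : t ≠ 1) (ht2 : t * t = 1) (a b : G) :
    a * t * a⁻¹ * (b * t * b⁻¹) ∈ frobeniusKernel H := by
  by_cases hab : a⁻¹ * b ∈ H
  · have hu : a⁻¹ * b * t * (a⁻¹ * b)⁻¹ = t := by
      refine involution_unique hH ht ht1 ht2 (H.mul_mem (H.mul_mem hab ht) (H.inv_mem hab))
        (fun h => ht1 ?_) ?_
      · exact conj_eq_one_iff.mp h
      · calc _ = a⁻¹ * b * (t * t) * (a⁻¹ * b)⁻¹ := by group
          _ = 1 := by rw [ht2, mul_one, mul_inv_cancel]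
    left
    calc a * t * a⁻¹ * (b * t * b⁻¹) = a * t * (a⁻¹ * b * t * (a⁻¹ * b)⁻¹) * a⁻¹ := by group
      _ = a * (t * t) * a⁻¹ := by rw [hu]; group
      _ = 1 := by rw [ht2]; group
  · exact conj_mul_conj_mem_kernel hH ht ht1 ht2 hab

/-- The kernel of a Frobenius group with complement of even order is closed under products. -/
theorem mul_mem_kernel_of_involution (hH : IsFrobeniusComplement H) {t : G} (ht : t ∈ H)
    (ht1 : t ≠ 1) (ht2 : t * t = 1) {x y : G} (hx : x ∈ frobeniusKernel H)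
    (hy : y ∈ frobeniusKernel H) : x * y ∈ frobeniusKernel H := by
  have htinv : t⁻¹ = t := inv_eq_of_mul_eq_one_right ht2
  have hx' : x⁻¹ ∈ frobeniusKernel H := by
    have := FrobComp.kernel_conj_mem hx t
    rw [htinv] at this
    rwa [involution_inverts_kernel hH ht ht1 ht2 hx] at this
  obtain ⟨a, ha⟩ := exists_eq_involution_mul hH ht ht1 ht2 hx'
  obtain ⟨b, rfl⟩ := exists_eq_involution_mul hH ht ht1 ht2 hy
  have hxe : x = a * t * a⁻¹ * t := by
    rw [← inv_inv x, ha, mul_inv_rev, mul_inv_rev, mul_inv_rev, inv_inv, htinv, mul_assoc a t a⁻¹]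
  have : x * (t * (b * t * b⁻¹)) = a * t * a⁻¹ * (b * t * b⁻¹) := by
    rw [hxe, mul_assoc, ← mul_assoc t t, ht2, one_mul]
  rw [this]
  exact conj_mul_conj_mem_kernel' hH ht ht1 ht2 a b

end Even

end CfsgLib.Solvable
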