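import Cfsg.Agent.Coprime.Generation
import Cfsg.Agent.TwoGroupsQ.UniqueInvolution
import Cfsg.Agent.CharactersDeep.QuaternionSylow
import Cfsg.Agent.Solvable.FrobeniusBasic

/-!
# Subgroups of a group acting without fixed points

* `coprime_card_of_fpf`, `isCyclic_of_fpf_comm`, `hasUniqueOrderP_of_fpf`.
-/

set_option autoImplicit false

namespace CfsgLib.Solvable

open scoped Pointwise

variable {G : Type*} [Group G] [Finite G] {K H : Subgroup G} [K.Normal]

/-- A group acting fixed-point-freely has order dividing `|K| - 1`. -/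
theorem card_dvd_card_pred_of_fpf
    (hfpf : ∀ h ∈ H, h ≠ 1 → K ⊓ Subgroup.centralizer {h} = ⊥) :
    Nat.card H ∣ Nat.card K - 1 := by
  let φ : H →* MulAut K := (MulAut.conjNormal (H := K)).comp H.subtype
  letI : MulAction H K := MulAction.compHom K φ
  refine card_dvd_card_sub_one (1 : K) (fun m => map_one (φ m)) (fun x hx m hm => ?_)
  by_contra h
  apply hx
  apply Subtype.ext
  refine eq_one_of_commute_of_fpf hfpf m.2 (fun e => h (Subtype.ext e)) x.2 ?_
  have h1 : (m : G) * x * (m : G)⁻¹ = x := congrArg Subtype.val hm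
  exact mul_inv_eq_iff_eq_mul.mp h1

/-- A group acting fixed-point-freely has order coprime to that of `K`. -/
theorem coprime_card_of_fpf
    (hfpf : ∀ h ∈ H, h ≠ 1 → K ⊓ Subgroup.centralizer {h} = ⊥) :
    (Nat.card H).Coprime (Nat.card K) := by
  have hK1 : 1 ≤ Nat.card K := Nat.card_pos
  have h1 : Nat.Coprime (Nat.card K - 1) (Nat.card K) := by
    conv_rhs => rw [← Nat.sub_add_cancel hK1]
    exact Nat.coprime_self_add_right.mpr (Nat.coprime_one_right _)
  exact h1.coprime_dvd_left (card_dvd_card_pred_of_fpf hfpf)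

/-- Abelian subgroups of a fixed-point-free group are cyclic. -/
theorem isCyclic_of_fpf_comm (hK : K ≠ ⊥)
    (hfpf : ∀ h ∈ H, h ≠ 1 → K ⊓ Subgroup.centralizer {h} = ⊥) {A : Subgroup G} (hAH : A ≤ H)
    [IsMulCommutative A] : IsCyclic A := by
  by_contra hA
  apply hK
  rw [← CfsgLib.Coprime.iSup_inf_centralizer_eq hA (Subgroup.le_normalizer_of_normal (H := K))
    ((coprime_card_of_fpf hfpf).coprime_dvd_left (Subgroup.card_dvd_of_le hAH))]
  simp only [iSup_eq_bot]
  intro a ha
  exact hfpf a (hAH ha.1) ha.2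

/-- A `p`-subgroup of a fixed-point-free group has only one subgroup of order `p`. -/
theorem hasUniqueOrderP_of_fpf (hK : K ≠ ⊥)
    (hfpf : ∀ h ∈ H, h ≠ 1 → K ⊓ Subgroup.centralizer {h} = ⊥) {p : ℕ} [Fact p.Prime]
    {P : Subgroup H} (hP : IsPGroup p P) : TwoGroupsQ.HasUniqueOrderP P p := by
  intro x y hx hy hy1
  have : Nontrivial P := ⟨⟨y, 1, hy1⟩⟩
  have := hP.center_nontrivial
  obtain ⟨n, hn⟩ := IsPGroup.iff_card.mp (hP.to_subgroup (Subgroup.center P))
  have hn0 : n ≠ 0 := by
    intro h0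
    rw [h0, pow_zero] at hn
    exact absurd (Finite.one_lt_card (α := Subgroup.center P)) (by rw [hn]; omega)
  obtain ⟨z, hz⟩ := exists_prime_orderOf_dvd_card' (G := Subgroup.center P) p
    (hn ▸ dvd_pow_self p hn0)
  -- everything of order `p` lies in `⟨z⟩`
  have key : ∀ u : P, u ^ p = 1 → u ∈ Subgroup.zpowers (z : P) := by
    intro u hu
    by_contra hmem
    let A : Subgroup P := Subgroup.zpowers (z : P) ⊔ Subgroup.zpowers u
    have hcomm : A ≤ Subgroup.centralizer (A : Set P) := by
      have hzc : Commute (z : P) u := (Subgroup.mem_center_iff.mp z.2 u).symm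
      refine sup_le ?_ ?_ <;> rw [Subgroup.le_centralizer_iff] <;> refine sup_le ?_ ?_ <;>
        rw [Subgroup.le_centralizer_iff] <;> intro a ha <;> rw [Subgroup.mem_centralizer_iff] <;>
        intro b hb <;> obtain ⟨i, rfl⟩ := Subgroup.mem_zpowers_iff.mp ha <;>
        obtain ⟨j, rfl⟩ := Subgroup.mem_zpowers_iff.mp hb
      · exact ((Commute.refl _).zpow_zpow j i).eq
      · exact (hzc.symm.zpow_zpow j i).eq
      · exact (hzc.zpow_zpow j i).eq
      · exact ((Commute.refl _).zpow_zpow j i).eq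
    let A' : Subgroup G := (A.map P.subtype).map H.subtype
    have : IsMulCommutative A' := ⟨⟨by
      rintro ⟨_, _, ⟨a, ha, rfl⟩, rfl⟩ ⟨_, _, ⟨b, hb, rfl⟩, rfl⟩
      apply Subtype.ext
      exact congrArg (fun t : P => ((t : H) : G)) (Subgroup.mem_centralizer_iff.mp (hcomm hb) a ha)⟩⟩
    have hA'H : A' ≤ H := Subgroup.map_subtype_le _
    have hcyc := isCyclic_of_fpf_comm hK hfpf hA'H
    have hcycA : IsCyclic A :=
      isCyclic_of_surjective ((A.equivMapOfInjective P.subtype P.subtype_injective).trans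
        ((A.map P.subtype).equivMapOfInjective H.subtype H.subtype_injective)).symm
        (MulEquiv.surjective _)
    apply hmem
    let z' : A := ⟨z, Subgroup.mem_sup_left (Subgroup.mem_zpowers _)⟩
    let u' : A := ⟨u, Subgroup.mem_sup_right (Subgroup.mem_zpowers _)⟩
    by_cases hu1 : u = 1
    · rw [hu1]; exact one_mem _
    have hu' : orderOf u' = p := by
      rw [Subgroup.orderOf_mk]
      exact orderOf_eq_prime hu hu1
    have hz' : orderOf z' = p := by
      rw [Subgroup.orderOf_mk, Subgroup.orderOf_coe, hz]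
    have he : Subgroup.zpowers z' = Subgroup.zpowers u' := by
      apply CfsgLib.CharactersDeep.QuaternionSylow.eq_of_card_eq
      rw [Nat.card_zpowers, Nat.card_zpowers, hz', hu']
    have h2 : u' ∈ Subgroup.zpowers z' := he ▸ Subgroup.mem_zpowers u'
    obtain ⟨i, hi⟩ := Subgroup.mem_zpowers_iff.mp h2
    exact Subgroup.mem_zpowers_iff.mpr ⟨i, by simpa [z', u'] using congrArg Subtype.val hi⟩
  have hle : Subgroup.zpowers y ≤ Subgroup.zpowers (z : P) := Subgroup.zpowers_le.mpr (key y hy)
  rw [Subgroup.eq_of_le_of_card_ge hle (by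
    rw [Nat.card_zpowers, Nat.card_zpowers, orderOf_eq_prime hy hy1, Subgroup.orderOf_coe, hz])]
  exact key x hx

end CfsgLib.Solvable
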