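import Cfsg.Agent.Solvable.Hall
import Cfsg.Agent.Characters.Burnside
import Cfsg.Agent.S0007

/-!
# Products of subgroups and solvability

* `isSolvable_of_three_factors`: Wielandt's criterion.
* `isSolvable_of_hall_complements`: the converse of Hall's theorem.
* `exists_sylow_system`, `isSolvable_of_sylow_system`.
-/

set_option autoImplicit false
set_option linter.style.haveILetI false
set_option linter.unusedSectionVars false

namespace CfsgLib.Solvable

open scoped Pointwise

universe u

variable {G : Type u} [Group G] [Finite G]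

theorem mul_set_of_factor {A B : Subgroup G} (h : ∀ g : G, ∃ a ∈ A, ∃ b ∈ B, g = a * b) :
    (A : Set G) * (B : Set G) = Set.univ :=
  Set.eq_univ_of_forall fun g => by
    obtain ⟨a, ha, b, hb, rfl⟩ := h g
    exact Set.mul_mem_mul ha hb

theorem map_factor {G' : Type*} [Group G'] {f : G →* G'} (hf : Function.Surjective f)
    {A B : Subgroup G} (h : ∀ g : G, ∃ a ∈ A, ∃ b ∈ B, g = a * b) :
    ∀ g : G', ∃ a ∈ A.map f, ∃ b ∈ B.map f, g = a * b := by
  intro g'
  obtain ⟨g, rfl⟩ := hf g'
  obtain ⟨a, ha, b, hb, rfl⟩ := h g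
  exact ⟨f a, Subgroup.mem_map_of_mem f ha, f b, Subgroup.mem_map_of_mem f hb, map_mul f a b⟩

/-- A minimal normal `p`-subgroup `M` of a factor `H₁` of `G = H₁ H₂` lies in `H₂` as soon as `p`
does not divide `|G : H₂|`; then the normal closure of `M` lies in `H₂`. -/
theorem exists_normal_le_of_factor {H₁ H₂ : Subgroup G}
    (h12 : ∀ g : G, ∃ x ∈ H₁, ∃ y ∈ H₂, g = x * y) {p : ℕ} [Fact p.Prime] {M : Subgroup G}
    (hM : IsPGroup p M) (hMn : H₁ ≤ Subgroup.normalizer (M : Set G)) (hp : ¬ p ∣ H₂.index) :
    ∃ N : Subgroup G, N.Normal ∧ M ≤ N ∧ N ≤ H₂ := by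
  obtain ⟨P, hMP⟩ := hM.exists_le_sylow
  obtain ⟨Q⟩ : Nonempty (Sylow p H₂) := inferInstance
  let Q' : Sylow p G := (Q.isPGroup'.map H₂.subtype).toSylow (by
    rw [Subgroup.index_map_subtype]
    intro h
    rcases (Nat.Prime.dvd_mul Fact.out).mp h with h | h
    · exact Q.not_dvd_index h
    · exact hp h)
  obtain ⟨g, hg⟩ := MulAction.exists_smul_eq G P Q'
  have hgM : MulAut.conj g • M ≤ H₂ := by
    refine le_trans (Subgroup.pointwise_smul_le_pointwise_smul_iff.mpr hMP) ?_
    rw [← Sylow.coe_subgroup_smul, hg]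
    exact Subgroup.map_subtype_le _
  -- `M` itself lies in `H₂`
  obtain ⟨x, hx, y, hy, he⟩ := h12 g⁻¹
  have hM2 : M ≤ H₂ := by
    intro m hm
    have h1 : x * m * x⁻¹ ∈ M := (Subgroup.mem_normalizer_iff.mp (hMn hx) m).mp hm
    have h2 : g * (x * m * x⁻¹) * g⁻¹ ∈ H₂ := hgM (conj_mem_conj_smul h1)
    have h3 : g * (x * m * x⁻¹) * g⁻¹ = y⁻¹ * m * y := by
      have hg' : g = y⁻¹ * x⁻¹ := by rw [← mul_inv_rev, ← he, inv_inv]
      rw [hg']; group
    rw [h3] at h2
    have h4 := H₂.mul_mem (H₂.mul_mem hy h2) (H₂.inv_mem hy)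
    simpa [mul_assoc] using h4
  refine ⟨⨆ g : G, MulAut.conj g • M, ?_, ?_, iSup_le fun g => ?_⟩
  · rw [← Subgroup.normalizer_eq_top_iff, eq_top_iff]
    intro a _
    rw [mem_normalizer_iff_conj_smul]
    have : MulAut.conj a • (⨆ g : G, MulAut.conj g • M) =
        ⨆ g : G, MulAut.conj (a * g) • M := by
      change (⨆ g : G, MulAut.conj g • M).map (MulAut.conj a).toMonoidHom = _
      rw [Subgroup.map_iSup]
      refine iSup_congr fun g => ?_
      change MulAut.conj a • MulAut.conj g • M = _
      rw [← mul_smul, ← map_mul]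
    rw [this]
    exact (Equiv.mulLeft a).iSup_comp (g := fun g => MulAut.conj g • M)
  · exact le_trans (by rw [map_one, one_smul]) (le_iSup (fun g : G => MulAut.conj g • M) 1)
  · obtain ⟨x, hx, y, hy, he⟩ := h12 g⁻¹
    have hg' : g = y⁻¹ * x⁻¹ := by rw [← mul_inv_rev, ← he, inv_inv]
    rw [hg', map_mul, mul_smul, mem_normalizer_iff_conj_smul.mp (hMn (H₁.inv_mem hx))]
    rw [← Subgroup.conj_smul_eq_self_of_mem (H₂.inv_mem hy)]
    exact Subgroup.pointwise_smul_le_pointwise_smul_iff.mpr hM2

private theorem three_factors_aux (n : ℕ) :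
    ∀ (G : Type u) [Group G] [Finite G], Nat.card G < n → ∀ H₁ H₂ H₃ : Subgroup G,
      Group.IsSolvable H₁ → Group.IsSolvable H₂ → Group.IsSolvable H₃ →
      (∀ g : G, ∃ x ∈ H₁, ∃ y ∈ H₂, g = x * y) → (∀ g : G, ∃ x ∈ H₁, ∃ y ∈ H₃, g = x * y) →
      H₂.index.Coprime H₃.index → Group.IsSolvable G := by
  induction n with
  | zero => intro G _ _ h; exact absurd h (Nat.not_lt_zero _)
  | succ n ih =>
    intro G _ _ hlt H₁ H₂ H₃ h₁ h₂ h₃ h12 h13 hcop
    by_cases h1 : H₁ = ⊥
    · have hsurj : Function.Surjective H₂.subtype := fun g => by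
        obtain ⟨x, hx, y, hy, rfl⟩ := h12 g
        rw [h1, Subgroup.mem_bot] at hx
        exact ⟨⟨y, hy⟩, by simp [hx]⟩
      exact Group.isSolvable_of_surjective hsurj
    have : Nontrivial H₁ := H₁.bot_or_nontrivial.resolve_left h1
    obtain ⟨M, hMn, hMne, hmin⟩ := exists_minimal_normal (G := H₁)
    obtain ⟨p, hp, hMp⟩ := exists_isPGroup_of_minimal_normal hMne hmin
    have := Fact.mk hp
    let M' : Subgroup G := M.map H₁.subtype
    have hM'n : H₁ ≤ Subgroup.normalizer (M' : Set G) := by
      intro x hx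
      rw [mem_normalizer_iff_conj_smul]
      have h4 := congrArg (Subgroup.map H₁.subtype)
        (Subgroup.Normal.conj_smul_eq_self (⟨x, hx⟩ : H₁) M)
      rwa [map_subtype_conj_smul] at h4
    have hM'ne : M' ≠ ⊥ := fun h =>
      hMne ((Subgroup.map_eq_bot_iff_of_injective _ H₁.subtype_injective).mp h)
    obtain ⟨N, hNn, hMN, hN⟩ : ∃ N : Subgroup G, N.Normal ∧ M' ≤ N ∧ (N ≤ H₂ ∨ N ≤ H₃) := by
      by_cases hp2 : p ∣ H₂.index
      · have hp3 : ¬ p ∣ H₃.index := fun h =>
          hp.ne_one (Nat.eq_one_of_dvd_coprimes hcop hp2 h)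
        obtain ⟨N, a, b, c⟩ := exists_normal_le_of_factor h13 (hMp.map _) hM'n hp3
        exact ⟨N, a, b, Or.inr c⟩
      · obtain ⟨N, a, b, c⟩ := exists_normal_le_of_factor h12 (hMp.map _) hM'n hp2
        exact ⟨N, a, b, Or.inl c⟩
    have hNsolv : Group.IsSolvable N := by
      rcases hN with h | h
      · haveI := h₂
        exact Group.isSolvable_of_isSolvable_injective (Subgroup.inclusion_injective h)
      · haveI := h₃
        exact Group.isSolvable_of_isSolvable_injective (Subgroup.inclusion_injective h)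
    have hNne : N ≠ ⊥ := ne_bot_of_le_ne_bot hM'ne hMN
    have hlt' : Nat.card (G ⧸ N) < n := by
      refine lt_of_lt_of_le ?_ (Nat.lt_succ_iff.mp hlt)
      rw [← Subgroup.index_eq_card, ← N.index_mul_card]
      exact lt_mul_of_one_lt_right (Nat.pos_of_ne_zero Subgroup.index_ne_zero_of_finite)
        (N.one_lt_card_iff_ne_bot.mpr hNne)
    let f := QuotientGroup.mk' N
    have hf : Function.Surjective f := QuotientGroup.mk'_surjective N
    have : Group.IsSolvable (G ⧸ N) := by
      refine ih (G ⧸ N) hlt' (H₁.map f) (H₂.map f) (H₃.map f) ?_ ?_ ?_ (map_factor hf h12)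
        (map_factor hf h13)
        (Nat.Coprime.coprime_dvd_left (H₂.index_map_dvd hf)
          (Nat.Coprime.coprime_dvd_right (H₃.index_map_dvd hf) hcop))
      · haveI := h₁
        exact Group.isSolvable_of_surjective (MonoidHom.subgroupMap_surjective f H₁)
      · haveI := h₂
        exact Group.isSolvable_of_surjective (MonoidHom.subgroupMap_surjective f H₂)
      · haveI := h₃
        exact Group.isSolvable_of_surjective (MonoidHom.subgroupMap_surjective f H₃)
    exact (Group.isSolvable_iff_subgroup_quotient N).mpr ⟨hNsolv, this⟩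

/-- Wielandt: `G = H₁H₂ = H₁H₃`, all three solvable, `|G:H₂|`, `|G:H₃|` coprime ⟹ `G` solvable. -/
theorem isSolvable_of_three_factors {H₁ H₂ H₃ : Subgroup G}
    (h₁ : Group.IsSolvable H₁) (h₂ : Group.IsSolvable H₂) (h₃ : Group.IsSolvable H₃)
    (h12 : ∀ g : G, ∃ x ∈ H₁, ∃ y ∈ H₂, g = x * y) (h13 : ∀ g : G, ∃ x ∈ H₁, ∃ y ∈ H₃, g = x * y)
    (hcop : H₂.index.Coprime H₃.index) : Group.IsSolvable G :=
  three_factors_aux _ G (Nat.lt_succ_self _) H₁ H₂ H₃ h₁ h₂ h₃ h12 h13 hcop

private theorem hall_converse_aux (n : ℕ) :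
    ∀ (G : Type u) [Group G] [Finite G], Nat.card G < n →
      (∀ p : ℕ, p.Prime → ∃ H : Subgroup G, H.index = p ^ (Nat.card G).factorization p) →
      Group.IsSolvable G := by
  induction n with
  | zero => intro G _ _ h; exact absurd h (Nat.not_lt_zero _)
  | succ n ih =>
    intro G _ _ hlt h
    by_cases h3 : (Nat.card G).primeFactors.card ≤ 2
    · obtain ⟨p, q, hp, hq, hpq⟩ : ∃ p q : ℕ, p.Prime ∧ q.Prime ∧
          (Nat.card G).primeFactors ⊆ {p, q} := by
        rcases Nat.lt_or_ge (Nat.card G).primeFactors.card 1 with hc | hc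
        · refine ⟨2, 2, Nat.prime_two, Nat.prime_two, ?_⟩
          rw [Finset.card_eq_zero.mp (by omega : (Nat.card G).primeFactors.card = 0)]
          exact Finset.empty_subset _
        · rcases Nat.lt_or_ge (Nat.card G).primeFactors.card 2 with hc2 | hc2
          · obtain ⟨p, hp⟩ := Finset.card_eq_one.mp (by omega : (Nat.card G).primeFactors.card = 1)
            have hpp : p.Prime :=
              Nat.prime_of_mem_primeFactors (hp ▸ Finset.mem_singleton_self p)
            exact ⟨p, p, hpp, hpp, by rw [hp]; simp⟩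
          · obtain ⟨p, q, -, hpq⟩ :=
              Finset.card_eq_two.mp (by omega : (Nat.card G).primeFactors.card = 2)
            exact ⟨p, q, Nat.prime_of_mem_primeFactors (n := Nat.card G) (by simp [hpq]),
              Nat.prime_of_mem_primeFactors (n := Nat.card G) (by simp [hpq]), by rw [hpq]⟩
      refine CfsgLib.Characters.isSolvable_of_card_eq_primePow_mul p q (Nat.card G) (Nat.card G)
        hp hq ?_
      have hne : p ^ Nat.card G * q ^ Nat.card G ≠ 0 :=
        Nat.mul_ne_zero (pow_ne_zero _ hp.ne_zero) (pow_ne_zero _ hq.ne_zero)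
      rw [← Nat.factorization_prime_le_iff_dvd Nat.card_pos.ne' hne]
      intro r hr
      by_cases hrd : r ∈ (Nat.card G).primeFactors
      · have hbound : (Nat.card G).factorization r ≤ Nat.card G :=
          (Nat.factorization_lt r Nat.card_pos.ne').le
        refine hbound.trans ((hr.pow_dvd_iff_le_factorization hne).mp ?_)
        rcases Finset.mem_insert.mp (hpq hrd) with rfl | h2
        · exact dvd_mul_right _ _
        · rw [Finset.mem_singleton.mp h2]
          exact dvd_mul_left _ _
      · rw [← Nat.support_factorization, Finsupp.notMem_support_iff] at hrd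
        rw [hrd]
        exact Nat.zero_le _
    · obtain ⟨p, q, r, hp, hq, hr, hpq, hpr, hqr⟩ :=
        Finset.two_lt_card_iff.mp (Nat.lt_of_not_le h3)
      have hsolv : ∀ s ∈ (Nat.card G).primeFactors, ∀ H : Subgroup G,
          H.index = s ^ (Nat.card G).factorization s → Group.IsSolvable H := by
        intro s hs H hH
        have hsp := Nat.prime_of_mem_primeFactors hs
        have hs1 : 1 < H.index := by
          rw [hH]
          exact Nat.one_lt_pow (Finsupp.mem_support_iff.mp (Nat.support_factorization _ ▸ hs))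
            hsp.one_lt
        refine ih H (lt_of_lt_of_le ?_ (Nat.lt_succ_iff.mp hlt)) ?_
        · rw [← H.card_mul_index]
          exact lt_mul_of_one_lt_right Nat.card_pos hs1
        intro t ht
        have hfac : ∀ u : ℕ, (Nat.card G).factorization u =
            (Nat.card H).factorization u + (H.index).factorization u := fun u => by
          rw [← H.card_mul_index, Nat.factorization_mul Nat.card_pos.ne'
            Subgroup.index_ne_zero_of_finite, Finsupp.add_apply]
        by_cases hts : t = s
        · subst hts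
          refine ⟨⊤, ?_⟩
          have h1 := hfac t
          rw [hH, ht.factorization_pow, Finsupp.single_eq_same] at h1
          rw [Subgroup.index_top, (by omega : (Nat.card H).factorization t = 0), pow_zero]
        · obtain ⟨K, hK⟩ := h t ht
          refine ⟨K.subgroupOf H, ?_⟩
          have hc : H.index.Coprime K.index := by
            rw [hH, hK]
            exact Nat.Coprime.pow _ _ ((Nat.coprime_primes hsp ht).mpr (Ne.symm hts))
          have h2 := (Cfsg.Agent.S0007.result H K hc).1
          rw [← Subgroup.relIndex_mul_index (inf_le_left : H ⊓ K ≤ H), Subgroup.inf_relIndex_left,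
            mul_comm H.index] at h2
          have h3 := Nat.eq_of_mul_eq_mul_right (Nat.pos_of_ne_zero Subgroup.index_ne_zero_of_finite) h2
          change K.relIndex H = _
          rw [h3, hK, hfac t, hH, hsp.factorization_pow, Finsupp.single_apply,
            if_neg (Ne.symm hts), add_zero]
      obtain ⟨Hp, hHp⟩ := h p (Nat.prime_of_mem_primeFactors hp)
      obtain ⟨Hq, hHq⟩ := h q (Nat.prime_of_mem_primeFactors hq)
      obtain ⟨Hr, hHr⟩ := h r (Nat.prime_of_mem_primeFactors hr)
      have hcop : ∀ {a b : ℕ} {A B : Subgroup G}, a ∈ (Nat.card G).primeFactors →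
          b ∈ (Nat.card G).primeFactors → a ≠ b → A.index = a ^ (Nat.card G).factorization a →
          B.index = b ^ (Nat.card G).factorization b → A.index.Coprime B.index := by
        intro a b A B ha hb hab hA hB
        rw [hA, hB]
        exact Nat.Coprime.pow _ _ ((Nat.coprime_primes (Nat.prime_of_mem_primeFactors ha)
          (Nat.prime_of_mem_primeFactors hb)).mpr hab)
      exact isSolvable_of_three_factors (hsolv p hp Hp hHp) (hsolv q hq Hq hHq) (hsolv r hr Hr hHr)
        (Cfsg.Agent.S0007.result Hp Hq (hcop hp hq hpq hHp hHq)).2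
        (Cfsg.Agent.S0007.result Hp Hr (hcop hp hr hpr hHp hHr)).2 (hcop hq hr hqr hHq hHr)

/-- The converse of Hall's theorem. -/
theorem isSolvable_of_hall_complements
    (h : ∀ p : ℕ, p.Prime → ∃ H : Subgroup G, H.index = p ^ (Nat.card G).factorization p) :
    Group.IsSolvable G :=
  hall_converse_aux _ G (Nat.lt_succ_self _) h

section Permutable

omit [Finite G] in
theorem coe_sup_of_permute {A B : Subgroup G} (h : (A : Set G) * B = (B : Set G) * A) :
    ((A ⊔ B : Subgroup G) : Set G) = (A : Set G) * B := by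
  let C : Subgroup G :=
    { carrier := (A : Set G) * B
      one_mem' := ⟨1, A.one_mem, 1, B.one_mem, mul_one 1⟩
      mul_mem' := fun {a b} ha hb => by
        have h1 : a * b ∈ ((A : Set G) * B) * ((A : Set G) * B) := Set.mul_mem_mul ha hb
        have h2 : ((A : Set G) * B) * ((A : Set G) * B) = (A : Set G) * B := by
          rw [mul_assoc, ← mul_assoc (B : Set G), ← h, mul_assoc (A : Set G) (B : Set G) B,
            coe_mul_coe, ← mul_assoc, coe_mul_coe]
        rwa [h2] at h1
      inv_mem' := fun {a} ha => by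
        obtain ⟨x, hx, y, hy, rfl⟩ := ha
        change (x * y)⁻¹ ∈ (A : Set G) * B
        rw [h, mul_inv_rev]
        exact Set.mul_mem_mul (B.inv_mem hy) (A.inv_mem hx) }
  refine subset_antisymm ?_ ?_
  · have hle : A ⊔ B ≤ C := sup_le
      (fun x hx => ⟨x, hx, 1, B.one_mem, mul_one x⟩) fun x hx => ⟨1, A.one_mem, x, hx, one_mul x⟩
    exact hle
  · rintro _ ⟨x, hx, y, hy, rfl⟩
    exact Subgroup.mul_mem_sup hx hy

theorem card_sup_of_permute {A B : Subgroup G} (h : (A : Set G) * B = (B : Set G) * A)
    (hd : Disjoint A B) : Nat.card (A ⊔ B : Subgroup G) = Nat.card A * Nat.card B := by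
  have h1 : ((A ⊔ B : Subgroup G) : Set G) =
      Set.range (fun p : A × B => (p.1 : G) * (p.2 : G)) := by
    rw [coe_sup_of_permute h]
    ext x
    simp only [Set.mem_mul, SetLike.mem_coe, Set.mem_range, Prod.exists, Subtype.exists, exists_prop]
  rw [← Nat.card_prod, ← Nat.card_range_of_injective (Subgroup.mul_injective_of_disjoint hd), ← h1]
  rfl

omit [Finite G] in
theorem permute_sup {A B C : Subgroup G} (hBC : (B : Set G) * C = (C : Set G) * B)
    (hAB : (A : Set G) * B = (B : Set G) * A) (hAC : (A : Set G) * C = (C : Set G) * A) :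
    (A : Set G) * (B ⊔ C : Subgroup G) = ((B ⊔ C : Subgroup G) : Set G) * A := by
  rw [coe_sup_of_permute hBC, ← mul_assoc, hAB, mul_assoc, hAC, ← mul_assoc]

theorem isSolvable_of_sylow_system (S : (p : Nat.Primes) → Sylow (p : ℕ) G)
    (hS : ∀ p q : Nat.Primes, (S p : Set G) * (S q : Set G) = (S q : Set G) * (S p : Set G)) :
    Group.IsSolvable G := by
  classical
  have hcardS : ∀ q : Nat.Primes,
      Nat.card (S q : Subgroup G) = (q : ℕ) ^ (Nat.card G).factorization q := fun q =>
    haveI := Fact.mk q.2; (S q).card_eq_multiplicity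
  have key : ∀ s : Finset Nat.Primes,
      (∀ r : Nat.Primes, ((S r : Subgroup G) : Set G) * (s.sup fun q => (S q : Subgroup G) :) =
          ((s.sup fun q => (S q : Subgroup G) : Subgroup G) : Set G) * (S r : Subgroup G)) ∧
      Nat.card (s.sup fun q => (S q : Subgroup G) : Subgroup G) =
        ∏ q ∈ s, (q : ℕ) ^ (Nat.card G).factorization q := by
    intro s
    induction s using Finset.induction_on with
    | empty => simp
    | insert a s ha ih =>
      rw [Finset.sup_insert, Finset.prod_insert ha]
      refine ⟨fun r => permute_sup (ih.1 a) (hS r a) (ih.1 r), ?_⟩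
      rw [card_sup_of_permute (ih.1 a), hcardS, ih.2]
      apply Subgroup.disjoint_of_coprime_natCard
      rw [hcardS, ih.2]
      refine Nat.Coprime.prod_right fun q hq => Nat.Coprime.pow _ _ ?_
      exact (Nat.coprime_primes a.2 q.2).mpr fun h => ha ((Subtype.ext h : a = q) ▸ hq)
  refine isSolvable_of_hall_complements fun p hp => ?_
  let s : Finset Nat.Primes :=
    (((Nat.card G).primeFactors.erase p).subtype Nat.Prime :)
  refine ⟨s.sup fun q => (S q : Subgroup G), ?_⟩
  have h1 := (s.sup fun q => (S q : Subgroup G) : Subgroup G).card_mul_index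
  have h2 : (Nat.card G) = (∏ q ∈ s, (q : ℕ) ^ (Nat.card G).factorization q) *
      p ^ (Nat.card G).factorization p := by
    conv_lhs => rw [← Nat.prod_factorization_pow_eq_self (Nat.card_pos (α := G)).ne']
    rw [Nat.prod_factorization_eq_prod_primeFactors]
    have h3 : ∏ q ∈ s, (q : ℕ) ^ (Nat.card G).factorization q =
        ∏ q ∈ (Nat.card G).primeFactors.erase p, q ^ (Nat.card G).factorization q :=
      (Finset.prod_subtype_of_mem (fun q : ℕ => q ^ (Nat.card G).factorization q) fun q hq =>
        Nat.prime_of_mem_primeFactors (Finset.mem_of_mem_erase hq))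
    rw [h3]
    by_cases hmem : p ∈ (Nat.card G).primeFactors
    · rw [Finset.prod_erase_mul _ _ hmem]
    · rw [Finset.erase_eq_of_notMem hmem]
      rw [← Nat.support_factorization, Finsupp.notMem_support_iff] at hmem
      rw [hmem, pow_zero, mul_one]
  rw [(key s).2] at h1
  conv_rhs at h1 => rw [h2]
  refine Nat.eq_of_mul_eq_mul_left ?_ h1
  exact Finset.prod_pos fun q _ => pow_pos q.2.pos _

theorem index_iInf_finset (K : ℕ → Subgroup G) (s : Finset ℕ)
    (hK : ∀ p ∈ s, (K p).index = p ^ (Nat.card G).factorization p) (hs : ∀ p ∈ s, p.Prime) :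
    (s.inf K).index = ∏ p ∈ s, p ^ (Nat.card G).factorization p := by
  classical
  induction s using Finset.induction_on with
  | empty => simp
  | insert a s ha ih =>
    have ih' := ih (fun p hp => hK p (Finset.mem_insert_of_mem hp))
      fun p hp => hs p (Finset.mem_insert_of_mem hp)
    rw [Finset.inf_insert, Finset.prod_insert ha]
    have hc : (K a).index.Coprime (s.inf K).index := by
      rw [hK a (Finset.mem_insert_self a s), ih']
      refine Nat.Coprime.prod_right fun q hq => Nat.Coprime.pow _ _ ?_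
      exact (Nat.coprime_primes (hs a (Finset.mem_insert_self a s))
        (hs q (Finset.mem_insert_of_mem hq))).mpr fun h => ha (h ▸ hq)
    rw [(Cfsg.Agent.S0007.result _ _ hc).1, ih', hK a (Finset.mem_insert_self a s)]

theorem exists_sylow_system [Group.IsSolvable G] :
    ∃ S : (p : Nat.Primes) → Sylow (p : ℕ) G,
      ∀ p q : Nat.Primes, (S p : Set G) * (S q : Set G) = (S q : Set G) * (S p : Set G) := by
  classical
  have hex : ∀ p : ℕ, ∃ K : Subgroup G, p.Prime → K.index = p ^ (Nat.card G).factorization p := by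
    intro p
    by_cases hp : p.Prime
    · have hne := (Nat.card_pos (α := G)).ne'
      have hcp : (Nat.card G / p ^ (Nat.card G).factorization p).Coprime
          (p ^ (Nat.card G).factorization p) :=
        (Nat.Coprime.pow_left _ (Nat.coprime_ordCompl hp hne)).symm
      obtain ⟨K, hK⟩ := exists_card_eq_of_coprime (G := G)
        (m := Nat.card G / p ^ (Nat.card G).factorization p)
        (n := p ^ (Nat.card G).factorization p)
        (Nat.div_mul_cancel (Nat.ordProj_dvd _ _)).symm hcp
      refine ⟨K, fun _ => ?_⟩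
      have h1 := K.card_mul_index
      rw [hK] at h1
      refine Nat.eq_of_mul_eq_mul_left (hK ▸ Nat.card_pos) (h1.trans ?_)
      exact (Nat.div_mul_cancel (Nat.ordProj_dvd _ _)).symm
    · exact ⟨⊤, fun h => absurd h hp⟩
  choose K hK using hex
  let P := (Nat.card G).primeFactors
  let T : Finset ℕ → Subgroup G := fun E => (P \ E).inf K
  have hcardT : ∀ E : Finset ℕ, (∀ e ∈ E, e.Prime) →
      Nat.card (T E) = ∏ e ∈ E, e ^ (Nat.card G).factorization e := by
    intro E hE
    have h1 := (T E).card_mul_index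
    rw [index_iInf_finset K _ (fun p hp => hK p (Nat.prime_of_mem_primeFactors
      (Finset.mem_sdiff.mp hp).1)) fun p hp => Nat.prime_of_mem_primeFactors
      (Finset.mem_sdiff.mp hp).1] at h1
    have h2 : ∏ e ∈ E, e ^ (Nat.card G).factorization e =
        ∏ e ∈ P ∩ E, e ^ (Nat.card G).factorization e := by
      refine (Finset.prod_subset Finset.inter_subset_right fun e he hne => ?_).symm
      have : e ∉ P := fun h => hne (Finset.mem_inter.mpr ⟨h, he⟩)
      simp only [P, ← Nat.support_factorization, Finsupp.notMem_support_iff] at this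
      rw [this, pow_zero]
    refine Nat.eq_of_mul_eq_mul_right (Finset.prod_pos (s := P \ E)
      fun q hq => pow_pos (Nat.prime_of_mem_primeFactors (Finset.mem_sdiff.mp hq).1).pos
        ((Nat.card G).factorization q)) (h1.trans ?_)
    rw [h2, Finset.prod_inter_mul_prod_sdiff, ← Nat.prod_factorization_eq_prod_primeFactors,
      Nat.prod_factorization_pow_eq_self (Nat.card_pos (α := G)).ne']
  have hmono : ∀ {E F : Finset ℕ}, E ⊆ F → T E ≤ T F := fun h =>
    Finset.inf_mono (Finset.sdiff_subset_sdiff le_rfl h)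
  let S : (p : Nat.Primes) → Sylow (p : ℕ) G := fun p =>
    haveI := Fact.mk p.2
    Sylow.ofCard (T {(p : ℕ)}) (by
      rw [hcardT _ (fun e he => Finset.mem_singleton.mp he ▸ p.2), Finset.prod_singleton])
  refine ⟨S, fun p q => ?_⟩
  rcases eq_or_ne p q with rfl | hne
  · rfl
  have hne' : (p : ℕ) ≠ q := fun h => hne (Subtype.ext h)
  have key : ∀ a b : Nat.Primes, (a : ℕ) ≠ b →
      ((T {(a : ℕ)} : Subgroup G) : Set G) * (T {(b : ℕ)} : Subgroup G) =
        (T {(a : ℕ), (b : ℕ)} : Subgroup G) := by
    intro a b hab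
    have hca := hcardT {(a : ℕ)} (fun e he => Finset.mem_singleton.mp he ▸ a.2)
    have hcb := hcardT {(b : ℕ)} (fun e he => Finset.mem_singleton.mp he ▸ b.2)
    rw [Finset.prod_singleton] at hca hcb
    have hd : Disjoint (T {(a : ℕ)}) (T {(b : ℕ)}) := Subgroup.disjoint_of_coprime_natCard (by
      rw [hca, hcb]
      exact Nat.Coprime.pow _ _ ((Nat.coprime_primes a.2 b.2).mpr hab))
    have hle1 : T {(a : ℕ)} ≤ T {(a : ℕ), (b : ℕ)} := hmono (by simp)
    have hle2 : T {(b : ℕ)} ≤ T {(a : ℕ), (b : ℕ)} := hmono (by simp)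
    have hset : ((T {(a : ℕ)} : Subgroup G) : Set G) * (T {(b : ℕ)} : Subgroup G) =
        Set.range (fun x : T {(a : ℕ)} × T {(b : ℕ)} => (x.1 : G) * (x.2 : G)) := by
      ext x
      simp only [Set.mem_mul, SetLike.mem_coe, Set.mem_range, Prod.exists, Subtype.exists,
        exists_prop]
    refine Set.eq_of_subset_of_ncard_le ?_ ?_ (Set.toFinite _)
    · rintro _ ⟨x, hx, y, hy, rfl⟩
      exact (T _).mul_mem (hle1 hx) (hle2 hy)
    · rw [hset, Set.ncard_range_of_injective (Subgroup.mul_injective_of_disjoint hd), Nat.card_prod,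
        hca, hcb]
      rw [← Nat.card_coe_set_eq]
      change Nat.card (T {(a : ℕ), (b : ℕ)}) ≤ _
      rw [hcardT _ (fun e he => by
        rcases Finset.mem_insert.mp he with rfl | h
        · exact a.2
        · exact Finset.mem_singleton.mp h ▸ b.2), Finset.prod_pair hab]
  change ((T {(p : ℕ)} : Subgroup G) : Set G) * (T {(q : ℕ)} : Subgroup G) =
    ((T {(q : ℕ)} : Subgroup G) : Set G) * (T {(p : ℕ)} : Subgroup G)
  rw [key p q hne', key q p hne'.symm, Finset.pair_comm]

end Permutable

end CfsgLib.Solvable
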