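import Mathlib.GroupTheory.Complement
import Mathlib.GroupTheory.SchurZassenhaus
import Cfsg.Agent.Solvable.Basic

/-!
# Gaschütz's theorem on complements of abelian normal subgroups

* `exists_complement_of_gaschutz`: existence.
* `exists_conj_eq_of_gaschutz`: conjugacy.

Both are proved with crossed homomorphisms into `K`.
-/

set_option autoImplicit false
set_option linter.unusedSectionVars false

namespace CfsgLib.Solvable

open scoped Pointwise

variable {G : Type*} [Group G] [Finite G] {K U : Subgroup G} [hKn : K.Normal] [IsMulCommutative K]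

open scoped IsMulCommutative

/-- The kernel of a crossed homomorphism which is the identity on `K` is a complement of `K`. -/
theorem exists_complement_of_crossedHom (φ : G → K)
    (hmul : ∀ g h : G, φ (g * h) = φ g * MulAut.conjNormal g (φ h))
    (hid : ∀ k : K, φ (k : G) = k) : ∃ H : Subgroup G, Subgroup.IsComplement' K H := by
  have h1 : φ 1 = 1 := by simpa using hid 1
  have hinv : ∀ g : G, φ g = 1 → φ g⁻¹ = 1 := by
    intro g hg
    have h2 := hmul g g⁻¹
    rw [mul_inv_cancel, h1, hg, one_mul] at h2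
    exact (MulAut.conjNormal g).injective (h2.symm.trans (map_one _).symm)
  let H : Subgroup G :=
    { carrier := {g | φ g = 1}
      one_mem' := h1
      mul_mem' := fun {a b} (ha : φ a = 1) (hb : φ b = 1) => by
        change φ (a * b) = 1
        rw [hmul, ha, hb, map_one, one_mul]
      inv_mem' := fun {a} ha => hinv a ha }
  refine ⟨H, Subgroup.isComplement'_of_disjoint_and_mul_eq_univ ?_ ?_⟩
  · rw [Subgroup.disjoint_def]
    intro x hxK (hxH : φ x = 1)
    have h2 := hid ⟨x, hxK⟩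
    rw [hxH] at h2
    exact congrArg Subtype.val h2.symm
  · refine Set.eq_univ_of_forall fun g => ?_
    refine ⟨(φ g : G), (φ g).2, (φ g : G)⁻¹ * g, ?_, mul_inv_cancel_left _ _⟩
    change φ ((φ g : G)⁻¹ * g) = 1
    have hc : MulAut.conjNormal ((φ g : G)⁻¹) (φ g) = φ g := Subtype.ext (by simp)
    rw [hmul, hc, ← Subgroup.coe_inv, hid, inv_mul_cancel]

omit [Finite G] hKn in
theorem powCoprime_symm_mul {n : ℕ} (h : (Nat.card K).Coprime n) (a b : K) :
    (powCoprime h).symm (a * b) = (powCoprime h).symm a * (powCoprime h).symm b := by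
  have key : ∀ x, ((powCoprime h).symm x) ^ n = x := fun x => by
    rw [← powCoprime_apply h, Equiv.apply_symm_apply]
  apply (powCoprime h).injective
  rw [powCoprime_apply, powCoprime_apply, mul_pow, key, key, key]

omit [Finite G] hKn [IsMulCommutative K] in
theorem powCoprime_symm_hom {n : ℕ} (h : (Nat.card K).Coprime n) (ψ : K ≃* K) (a : K) :
    (powCoprime h).symm (ψ a) = ψ ((powCoprime h).symm a) := by
  have key : ∀ x, ((powCoprime h).symm x) ^ n = x := fun x => by
    rw [← powCoprime_apply h, Equiv.apply_symm_apply]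
  apply (powCoprime h).injective
  rw [powCoprime_apply, powCoprime_apply, key, ← map_pow ψ, key]

/-- **Gaschütz**: existence of complements. -/
theorem exists_complement_of_gaschutz (hKU : K ≤ U) (hcop : (Nat.card K).Coprime U.index)
    {A : Subgroup G} (hAK : A ⊓ K = ⊥) (hKA : K ⊔ A = U) :
    ∃ H : Subgroup G, Subgroup.IsComplement' K H := by
  classical
  have := Fintype.ofFinite (G ⧸ U)
  have huniq : ∀ u ∈ U, ∃ k : K, ∃ a : A, u = (k : G) * a := by
    intro u hu
    rw [← hKA] at hu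
    have hu' : u ∈ ((K ⊔ A : Subgroup G) : Set G) := hu
    rw [Subgroup.normal_mul] at hu'
    obtain ⟨k, hk, a, ha, rfl⟩ := hu'
    exact ⟨⟨k, hk⟩, ⟨a, ha⟩, rfl⟩
  have hdisj : ∀ {k k' : K} {a a' : A}, (k : G) * a = (k' : G) * a' → k = k' := by
    intro k k' a a' h
    have h1 : (k' : G)⁻¹ * k ∈ A ⊓ K := by
      refine ⟨?_, K.mul_mem (K.inv_mem k'.2) k.2⟩
      have : (k' : G)⁻¹ * k = (a' : G) * (a : G)⁻¹ := by
        rw [inv_mul_eq_iff_eq_mul, ← mul_assoc, ← h, mul_inv_cancel_right]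
      rw [this]
      exact A.mul_mem a'.2 (A.inv_mem a.2)
    rw [hAK, Subgroup.mem_bot, inv_mul_eq_one] at h1
    exact Subtype.ext h1.symm
  -- every `g * x.out` is `k * (g • x).out * a`
  have hdec : ∀ (g : G) (x : G ⧸ U), ∃ k : K, ∃ a : A,
      g * x.out = (k : G) * (g • x).out * a := by
    intro g x
    have hu : (g • x).out⁻¹ * (g * x.out) ∈ U := by
      rw [← QuotientGroup.eq, QuotientGroup.out_eq']
      conv_lhs => rw [← QuotientGroup.out_eq' x]
      rfl
    obtain ⟨k, a, hka⟩ := huniq _ hu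
    refine ⟨MulAut.conjNormal (g • x).out k, a, ?_⟩
    rw [MulAut.conjNormal_apply]
    calc g * x.out = (g • x).out * ((g • x).out⁻¹ * (g * x.out)) := by group
      _ = _ := by rw [hka]; group
  choose κ α hκ using hdec
  have hκuniq : ∀ (g : G) (x : G ⧸ U) (k : K) (a : A),
      g * x.out = (k : G) * (g • x).out * a → κ g x = k := by
    intro g x k a h
    have h1 := hdisj (k := MulAut.conjNormal (g • x).out⁻¹ (κ g x)) (a := α g x)
      (k' := MulAut.conjNormal (g • x).out⁻¹ k) (a' := a) (by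
        simp only [MulAut.conjNormal_apply, inv_inv]
        calc (g • x).out⁻¹ * (κ g x : G) * (g • x).out * (α g x : G)
            = (g • x).out⁻¹ * ((κ g x : G) * (g • x).out * α g x) := by group
          _ = (g • x).out⁻¹ * ((k : G) * (g • x).out * a) := by rw [← hκ, h]
          _ = (g • x).out⁻¹ * (k : G) * (g • x).out * a := by group)
    exact (MulAut.conjNormal _).injective h1
  let f : G → K := fun g => ∏ x : G ⧸ U, κ g x
  have hfmul : ∀ g h : G, f (g * h) = f g * MulAut.conjNormal g (f h) := by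
    intro g h
    have hpt : ∀ x, κ (g * h) x = MulAut.conjNormal g (κ h x) * κ g (h • x) := by
      intro x
      refine hκuniq _ _ _ (α g (h • x) * α h x) ?_
      rw [mul_smul, Subgroup.coe_mul, MulAut.conjNormal_apply, Subgroup.coe_mul]
      calc g * h * x.out = g * ((κ h x : G) * (h • x).out * α h x) := by rw [← hκ, mul_assoc]
        _ = g * (κ h x : G) * g⁻¹ * (g * (h • x).out) * α h x := by group
        _ = _ := by rw [hκ g (h • x)]; group
    simp only [f, hpt, Finset.prod_mul_distrib, ← map_prod]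
    rw [mul_comm]
    congr 1
    exact Fintype.prod_equiv (MulAction.toPerm h) _ _ (fun x => rfl)
  have hfK : ∀ k : K, f (k : G) = k ^ U.index := by
    intro k
    have hfix : ∀ x : G ⧸ U, (k : G) • x = x := by
      intro x
      conv_lhs => rw [← QuotientGroup.out_eq' x]
      conv_rhs => rw [← QuotientGroup.out_eq' x]
      change (QuotientGroup.mk ((k : G) * x.out) : G ⧸ U) = QuotientGroup.mk x.out
      rw [QuotientGroup.eq]
      apply hKU
      have := hKn.conj_mem _ (K.inv_mem k.2) x.out⁻¹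
      simpa [mul_assoc] using this
    have hpt : ∀ x, κ (k : G) x = k := fun x =>
      hκuniq _ _ _ 1 (by rw [hfix, Subgroup.coe_one, mul_one])
    simp only [f, hpt, Finset.prod_const, Finset.card_univ, ← Nat.card_eq_fintype_card,
      ← Subgroup.index_eq_card]
  refine exists_complement_of_crossedHom (fun g => (powCoprime hcop).symm (f g)) ?_ ?_
  · intro g h
    rw [hfmul, powCoprime_symm_mul, powCoprime_symm_hom]
  · intro k
    apply (powCoprime hcop).injective
    rw [Equiv.apply_symm_apply, powCoprime_apply, hfK]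

/-- **Gaschütz**: conjugacy of complements. -/
theorem exists_conj_eq_of_gaschutz (hKU : K ≤ U) (hcop : (Nat.card K).Coprime U.index)
    {H₀ H₁ : Subgroup G} (h₀ : Subgroup.IsComplement' K H₀) (h₁ : Subgroup.IsComplement' K H₁)
    (hU : H₀ ⊓ U = H₁ ⊓ U) : ∃ g : G, MulAut.conj g • H₀ = H₁ := by
  classical
  have := Fintype.ofFinite (G ⧸ U)
  -- the `K`-component with respect to a complement
  have comp : ∀ {H : Subgroup G}, Subgroup.IsComplement' K H → ∃ φ : G → K,
      (∀ g, (φ g : G)⁻¹ * g ∈ H) ∧ (∀ g h, φ (g * h) = φ g * MulAut.conjNormal g (φ h)) := by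
    intro H hH
    have hex : ∀ g : G, ∃ k : K, (k : G)⁻¹ * g ∈ H := fun g => by
      obtain ⟨⟨k, h⟩, rfl⟩ := hH.2 g
      exact ⟨k, by simp⟩
    choose φ hφ using hex
    have huniq : ∀ (g : G) (k : K), (k : G)⁻¹ * g ∈ H → φ g = k := by
      intro g k hk
      have h1 : (φ g : G)⁻¹ * k ∈ K ⊓ H := ⟨K.mul_mem (K.inv_mem (φ g).2) k.2, by
        have h2 := H.mul_mem (hφ g) (H.inv_mem hk)
        simpa [mul_assoc] using h2⟩
      rw [hH.disjoint.eq_bot, Subgroup.mem_bot, inv_mul_eq_one] at h1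
      exact Subtype.ext h1
    refine ⟨φ, hφ, fun g h => huniq _ _ ?_⟩
    have h2 := H.mul_mem (hφ g) (hφ h)
    have hcomm : ∀ x : K, (φ g : G)⁻¹ * x = x * (φ g : G)⁻¹ := fun x =>
      congrArg Subtype.val (mul_comm (φ g)⁻¹ x)
    have h3 : ((φ g * MulAut.conjNormal g (φ h) : K) : G)⁻¹ * (g * h) =
        (φ g : G)⁻¹ * g * ((φ h : G)⁻¹ * h) := by
      rw [Subgroup.coe_mul, mul_inv_rev, ← Subgroup.coe_inv (H := K) (MulAut.conjNormal g (φ h)),
        ← hcomm, Subgroup.coe_inv, MulAut.conjNormal_apply]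
      group
    rwa [h3]
  obtain ⟨φ₀, hφ₀, hm₀⟩ := comp h₀
  obtain ⟨φ₁, hφ₁, hm₁⟩ := comp h₁
  let δ : G → K := fun g => φ₀ g * (φ₁ g)⁻¹
  have hδmul : ∀ g h, δ (g * h) = δ g * MulAut.conjNormal g (δ h) := by
    intro g h
    simp only [δ, hm₀, hm₁, map_mul, map_inv, mul_inv_rev, mul_assoc, mul_comm, mul_left_comm]
  have hδU : ∀ u ∈ U, δ u = 1 := by
    intro u hu
    simp only [δ]
    have h1 : (φ₀ u : G)⁻¹ * u ∈ H₁ := by
      have : (φ₀ u : G)⁻¹ * u ∈ H₀ ⊓ U := ⟨hφ₀ u, U.mul_mem (U.inv_mem (hKU (φ₀ u).2)) hu⟩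
      rw [hU] at this
      exact this.1
    have h2 : (φ₀ u : G)⁻¹ * (φ₁ u : G) ∈ K ⊓ H₁ := ⟨K.mul_mem (K.inv_mem (φ₀ u).2) (φ₁ u).2, by
      have h3 := H₁.mul_mem h1 (H₁.inv_mem (hφ₁ u))
      simpa [mul_assoc] using h3⟩
    rw [h₁.disjoint.eq_bot, Subgroup.mem_bot, inv_mul_eq_one] at h2
    rw [Subtype.ext h2, mul_inv_cancel]
  let c : K := ∏ x : G ⧸ U, δ x.out
  have hc : ∀ g : G, c = δ g ^ U.index * MulAut.conjNormal g c := by
    intro g
    have hpt : ∀ x : G ⧸ U, δ (g • x).out = δ g * MulAut.conjNormal g (δ x.out) := by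
      intro x
      have hu : (g * x.out)⁻¹ * (g • x).out ∈ U := by
        rw [← QuotientGroup.eq, QuotientGroup.out_eq']
        conv_rhs => rw [← QuotientGroup.out_eq' x]
        rfl
      have h4 : (g • x).out = g * x.out * ((g * x.out)⁻¹ * (g • x).out) :=
        (mul_inv_cancel_left _ _).symm
      rw [h4, hδmul, hδU _ hu, map_one, mul_one, hδmul]
    calc c = ∏ x : G ⧸ U, δ (g • x).out :=
          (Fintype.prod_equiv (MulAction.toPerm g) _ _ (fun x => rfl)).symm
      _ = ∏ x : G ⧸ U, δ g * MulAut.conjNormal g (δ x.out) := Finset.prod_congr rfl fun x _ => hpt x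
      _ = _ := by
          rw [Finset.prod_mul_distrib, ← map_prod, Finset.prod_const, Finset.card_univ,
            ← Nat.card_eq_fintype_card, ← Subgroup.index_eq_card]
  let e : K := (powCoprime hcop).symm c
  refine ⟨(e : G), Subgroup.eq_of_le_of_card_ge ?_ (by
    rw [card_conj_smul, h₀.symm.index_eq_card.symm, h₁.symm.index_eq_card.symm])⟩
  intro x hx
  rw [mem_conj_smul] at hx
  -- `x = e h e⁻¹` with `h ∈ H₀`
  obtain ⟨h, hh, rfl⟩ : ∃ h ∈ H₀, (e : G) * h * (e : G)⁻¹ = x :=
    ⟨_, hx, by simp [mul_assoc]⟩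
  have hδh : δ h = e * (MulAut.conjNormal h e)⁻¹ := by
    apply (powCoprime hcop).injective
    have he : e ^ U.index = c := by
      rw [← powCoprime_apply hcop]
      exact Equiv.apply_symm_apply _ _
    have he' : MulAut.conjNormal h e ^ U.index = MulAut.conjNormal h c := by rw [← map_pow, he]
    rw [powCoprime_apply, powCoprime_apply, mul_pow e, inv_pow (MulAut.conjNormal h e), he', he, eq_mul_inv_iff_mul_eq,
      ← hc h]
  have hφ0h : φ₀ h = 1 := by
    have h5 : (φ₀ h : G) ∈ K ⊓ H₀ := ⟨(φ₀ h).2, by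
      have h6 := H₀.mul_mem hh (H₀.inv_mem (hφ₀ h))
      simpa using h6⟩
    rw [h₀.disjoint.eq_bot, Subgroup.mem_bot] at h5
    exact Subtype.ext h5
  have hφ1h : φ₁ h = MulAut.conjNormal h e * e⁻¹ := by
    have h7 : (φ₁ h)⁻¹ = e * (MulAut.conjNormal h e)⁻¹ := by
      rw [← hδh]; simp only [δ, hφ0h, one_mul]
    rw [← inv_inv (φ₁ h), h7, mul_inv_rev, inv_inv]
  have h8 := hφ₁ h
  rw [hφ1h, Subgroup.coe_mul, Subgroup.coe_inv, MulAut.conjNormal_apply] at h8
  have h9 : ((h : G) * e * h⁻¹ * (e : G)⁻¹)⁻¹ * h = e * h * (e : G)⁻¹ := by group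
  rwa [h9] at h8

end CfsgLib.Solvable
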